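import Mathlib

set_option linter.unusedSectionVars false
set_option linter.unusedVariables false
set_option linter.unusedSimpArgs false
set_option autoImplicit false
set_option linter.style.haveILetI false
set_option maxHeartbeats 400000

universe v u

noncomputable section

namespace Groth.Agent.Helper6.RDL

open CategoryTheory CategoryTheory.Limits Pretriangulated ZeroObject

variable {A : Type u} [Category.{v} A] [Abelian A]

/-- a class of objects which contains zero objects and is closed under isomorphisms and binary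
biproducts -/
structure IsAddClass (P : ObjectProperty A) : Prop where
  of_iso : ∀ {X Y : A} (_ : X ≅ Y), P X → P Y
  of_isZero : ∀ {X : A}, IsZero X → P X
  biprod : ∀ {X Y : A}, P X → P Y → P (X ⊞ Y)

variable (P : ObjectProperty A)

/-- objects of the homotopy category isomorphic to complexes with terms in `P` -/
def TwG : ObjectProperty (HomotopyCategory A (ComplexShape.up ℤ)) :=
  fun X => ∃ K : CochainComplex A ℤ, (∀ p, P (K.X p)) ∧
    Nonempty (X ≅ (HomotopyCategory.quotient A (ComplexShape.up ℤ)).obj K)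

variable {P}

lemma TwG_quotient_obj (K : CochainComplex A ℤ) (hK : ∀ p, P (K.X p)) :
    TwG P ((HomotopyCategory.quotient A (ComplexShape.up ℤ)).obj K) :=
  ⟨K, hK, ⟨Iso.refl _⟩⟩

instance : (TwG P).IsClosedUnderIsomorphisms where
  of_iso := fun e ⟨K, hK, ⟨e'⟩⟩ => ⟨K, hK, ⟨e.symm ≪≫ e'⟩⟩

variable (hP : IsAddClass P)

include hP in
lemma TwG_containsZero : (TwG P).ContainsZero where
  exists_zero := by
    refine ⟨(HomotopyCategory.quotient A (ComplexShape.up ℤ)).obj 0,
      (HomotopyCategory.quotient A (ComplexShape.up ℤ)).map_isZero (isZero_zero _), ?_⟩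
    refine TwG_quotient_obj 0 (fun p => hP.of_isZero ?_)
    exact (HomologicalComplex.eval A (ComplexShape.up ℤ) p).map_isZero (isZero_zero _)

instance : (TwG P).IsStableUnderShift ℤ where
  isStableUnderShiftBy a :=
    { le_shift := by
        rintro X ⟨K, hK, ⟨e⟩⟩
        refine ⟨K⟦a⟧, fun p => hK _, ⟨(shiftFunctor _ a).mapIso e ≪≫
          (((HomotopyCategory.quotient A (ComplexShape.up ℤ)).commShiftIso a).app K).symm⟩⟩ }

include hP in
lemma prop_mappingCone {K L : CochainComplex A ℤ} (φ : K ⟶ L)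
    (hK : ∀ p, P (K.X p)) (hL : ∀ p, P (L.X p)) (p : ℤ) :
    P ((CochainComplex.mappingCone φ).X p) :=
  hP.of_iso (HomologicalComplex.homotopyCofiber.XIsoBiprod φ p (p + 1) rfl).symm
    (hP.biprod (hK _) (hL _))

include hP in
lemma TwG_isTriangulatedClosed₃ : (TwG P).IsTriangulatedClosed₃ where
  ext₃' := by
    rintro T hT ⟨K₁, hK₁, ⟨e₁⟩⟩ ⟨K₂, hK₂, ⟨e₂⟩⟩
    obtain ⟨φ, hφ⟩ := (HomotopyCategory.quotient A (ComplexShape.up ℤ)).map_surjective
      (e₁.inv ≫ T.mor₁ ≫ e₂.hom)
    have hT' := HomotopyCategory.mappingCone_triangleh_distinguished φ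
    have comm : T.mor₁ ≫ e₂.hom = e₁.hom ≫ (CochainComplex.mappingCone.triangleh φ).mor₁ := by
      change T.mor₁ ≫ e₂.hom = e₁.hom ≫ (HomotopyCategory.quotient A (ComplexShape.up ℤ)).map φ
      rw [hφ, Iso.hom_inv_id_assoc]
    let e := isoTriangleOfIso₁₂ T _ hT hT' e₁ e₂ comm
    refine ObjectProperty.le_isoClosure _ _ ?_
    exact ⟨CochainComplex.mappingCone φ, prop_mappingCone hP φ hK₁ hK₂,
      ⟨Triangle.π₃.mapIso e⟩⟩

include hP in
lemma TwG_isTriangulated : (TwG P).IsTriangulated := by
  haveI := TwG_containsZero hP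
  haveI := TwG_isTriangulatedClosed₃ hP
  haveI : (TwG P).IsTriangulatedClosed₂ :=
    ObjectProperty.IsTriangulatedClosed₂.of_isTriangulatedClosed₃
  exact { }

end Groth.Agent.Helper6.RDL
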