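import Mathlib
import Groth.Agent.Lib.Helper6.RDU.Acyc
import Groth.Agent.Lib.Helper6.RDL.TwG

set_option linter.unusedSectionVars false
set_option linter.unusedVariables false
set_option linter.unusedSimpArgs false
set_option autoImplicit false
set_option linter.style.haveILetI false
set_option maxHeartbeats 400000

universe v u v' u'

noncomputable section

namespace Groth.Agent.Helper6.RDL

open CategoryTheory CategoryTheory.Limits Groth.Agent.Helper6.RDU

variable {A : Type u} [Category.{v} A] [Abelian A] [HasInjectiveResolutions A]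
  {B : Type u'} [Category.{v'} B] [Abelian B] (F : A ⥤ B) [F.Additive]

/-- objects whose derived functors vanish in the degrees of `S` -/
def Van (S : Set ℕ) : ObjectProperty A :=
  fun X => ∀ i : ℕ, i ∈ S → IsZero ((F.rightDerived i).obj X)

lemma isAddClass_Van (S : Set ℕ) : IsAddClass (Van F S) where
  of_iso e hX i hi := (hX i hi).of_iso ((F.rightDerived i).mapIso e.symm)
  of_isZero hX i _ := (F.rightDerived i).map_isZero hX
  biprod {X Y} hX hY i hi := by
    rw [IsZero.iff_id_eq_zero, ← CategoryTheory.Functor.map_id, ← biprod.total, Functor.map_add,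
      Functor.map_comp, Functor.map_comp]
    have h1 : (F.rightDerived i).map (biprod.fst : X ⊞ Y ⟶ X) = 0 := (hX i hi).eq_of_tgt _ _
    have h2 : (F.rightDerived i).map (biprod.snd : X ⊞ Y ⟶ Y) = 0 := (hY i hi).eq_of_tgt _ _
    rw [h1, h2, zero_comp, zero_comp, add_zero]

lemma Van_mono {S T : Set ℕ} (h : T ⊆ S) {X : A} (hX : Van F S X) : Van F T X :=
  fun i hi => hX i (h hi)

/-- objects with derived functors concentrated in degree `k` -/
abbrev Pk (k : ℕ) : ObjectProperty A := Van F {i | i ≠ k}

/-- objects with derived functors concentrated in degrees `0` and `k` -/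
abbrev Mk (k : ℕ) : ObjectProperty A := Van F {i | i ≠ 0 ∧ i ≠ k}

/-- objects with vanishing derived functors in degrees `< k` and `< n` -/
abbrev Low (n k : ℕ) : ObjectProperty A := Van F {i | i < k ∧ i < n}

lemma Van_of_injective (S : Set ℕ) (hS : 0 ∉ S) (X : A) [Injective X] : Van F S X := by
  intro i hi
  obtain ⟨j, rfl⟩ : ∃ j, i = j + 1 := ⟨i - 1, by
    have : i ≠ 0 := fun h => hS (h ▸ hi)
    omega⟩
  exact F.isZero_rightDerived_obj_injective_succ j X

section SES

variable (S : ShortComplex A) (hS : S.ShortExact)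

include hS in
/-- dimension shifting: vanishing of `Rⁱ⁺¹` of the kernel gives vanishing of `Rⁱ` of the cokernel -/
lemma isZero_X₃_of_isZero_X₁ (i : ℕ) (h₂ : IsZero ((F.rightDerived i).obj S.X₂))
    (h₁ : IsZero ((F.rightDerived (i + 1)).obj S.X₁)) :
    IsZero ((F.rightDerived i).obj S.X₃) :=
  ((les F).exact₃ S hS i (i + 1) rfl).isZero_of_both_zeros (h₂.eq_of_src _ _) (h₁.eq_of_tgt _ _)

include hS in
/-- dimension shifting: vanishing of `Rⁱ` of the cokernel gives vanishing of `Rⁱ⁺¹` of the kernel -/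
lemma isZero_X₁_of_isZero_X₃ (i : ℕ) (h₂ : IsZero ((F.rightDerived (i + 1)).obj S.X₂))
    (h₃ : IsZero ((F.rightDerived i).obj S.X₃)) :
    IsZero ((F.rightDerived (i + 1)).obj S.X₁) :=
  ((les F).exact₁ S hS i (i + 1) rfl).isZero_of_both_zeros (h₃.eq_of_src _ _) (h₂.eq_of_tgt _ _)

include hS in
lemma isZero_X₂_of_isZero (i : ℕ) (h₁ : IsZero ((F.rightDerived i).obj S.X₁))
    (h₃ : IsZero ((F.rightDerived i).obj S.X₃)) :
    IsZero ((F.rightDerived i).obj S.X₂) :=
  ((les F).exact₂ S hS i).isZero_of_both_zeros (h₁.eq_of_src _ _) (h₃.eq_of_tgt _ _)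

include hS in
/-- the connecting morphism is an epimorphism if `Rⁱ⁺¹` of the middle term vanishes -/
lemma epi_δ (i : ℕ) (h₂ : IsZero ((F.rightDerived (i + 1)).obj S.X₂)) :
    Epi ((les F).δ S hS i (i + 1) rfl) :=
  ((les F).exact₁ S hS i (i + 1) rfl).epi_f (h₂.eq_of_tgt _ _)

include hS in
/-- the connecting morphism is a monomorphism if `Rⁱ` of the middle term vanishes -/
lemma mono_δ (i : ℕ) (h₂ : IsZero ((F.rightDerived i).obj S.X₂)) :
    Mono ((les F).δ S hS i (i + 1) rfl) :=
  ((les F).exact₃ S hS i (i + 1) rfl).mono_g (h₂.eq_of_src _ _)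

variable [PreservesFiniteLimits F]

include hS in
/-- left exactness of `R⁰F` -/
lemma mono_rightDerived_zero_map_f : Mono ((F.rightDerived 0).map S.f) := by
  haveI := hS.mono_f
  haveI : Mono (F.map S.f) := inferInstance
  have hnat := F.rightDerivedZeroIsoSelf.hom.naturality S.f
  have e : (F.rightDerived 0).map S.f = F.rightDerivedZeroIsoSelf.hom.app S.X₁ ≫ F.map S.f ≫
      F.rightDerivedZeroIsoSelf.inv.app S.X₂ := by
    rw [← reassoc_of% hnat, Iso.hom_inv_id_app, Category.comp_id]
  rw [e]
  infer_instance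

include hS in
/-- if `R⁰` of the middle term vanishes, so does `R⁰` of the kernel -/
lemma isZero_rightDerived_zero_X₁ (h₂ : IsZero ((F.rightDerived 0).obj S.X₂)) :
    IsZero ((F.rightDerived 0).obj S.X₁) := by
  haveI := mono_rightDerived_zero_map_f F S hS
  rw [IsZero.iff_id_eq_zero, ← cancel_mono ((F.rightDerived 0).map S.f)]
  exact h₂.eq_of_tgt _ _

end SES

end Groth.Agent.Helper6.RDL
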