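import Mathlib

set_option linter.unusedSectionVars false
set_option linter.unusedVariables false
set_option linter.unusedSimpArgs false
set_option autoImplicit false
set_option linter.style.haveILetI false
set_option maxHeartbeats 400000

noncomputable section

namespace Groth.Agent.Helper6.RDL

open CategoryTheory CategoryTheory.Limits

variable {C D H : Type*} [Category C] [Category D] [Category H]
  {L L' : C ⥤ D} {F F' : C ⥤ H}

/-- transport of a left Kan extension along isomorphisms of both functors -/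
lemma isLeftKanExtension_of_isos (RF : D ⥤ H) (α : F ⟶ L ⋙ RF) [RF.IsLeftKanExtension α]
    (eL : L ≅ L') (eF : F ≅ F') :
    RF.IsLeftKanExtension (F := F') (L := L')
      (eF.inv ≫ α ≫ Functor.whiskerRight eL.hom RF) := by
  refine ⟨⟨IsInitial.ofUniqueHom (fun Y => ?_) (fun Y m => ?_)⟩⟩
  · let G : D ⥤ H := Y.right
    let β' : F' ⟶ L' ⋙ G := Y.hom
    let β : F ⟶ L ⋙ G := eF.hom ≫ β' ≫ Functor.whiskerRight eL.inv G
    let γ : RF ⟶ G := RF.descOfIsLeftKanExtension α G β
    have hγ : ∀ X, α.app X ≫ γ.app (L.obj X) = β.app X :=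
      fun X => RF.descOfIsLeftKanExtension_fac_app α G β X
    refine StructuredArrow.homMk γ ?_
    ext X
    change (eF.inv.app X ≫ α.app X ≫ RF.map (eL.hom.app X)) ≫ γ.app (L'.obj X) = β'.app X
    have hnat := γ.naturality (eL.hom.app X)
    simp only [Category.assoc]
    rw [hnat, reassoc_of% (hγ X)]
    dsimp [β]
    simp only [Category.assoc, ← G.map_comp, Iso.inv_hom_id_app, G.map_id, Category.comp_id,
      Iso.inv_hom_id_app_assoc]
  · let G : D ⥤ H := Y.right
    let β' : F' ⟶ L' ⋙ G := Y.hom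
    let β : F ⟶ L ⋙ G := eF.hom ≫ β' ≫ Functor.whiskerRight eL.inv G
    let γ : RF ⟶ G := RF.descOfIsLeftKanExtension α G β
    let μ : RF ⟶ G := m.right
    apply StructuredArrow.ext
    change μ = γ
    apply RF.hom_ext_of_isLeftKanExtension α
    rw [RF.descOfIsLeftKanExtension_fac α G β]
    ext X
    have hm : (eF.inv.app X ≫ α.app X ≫ RF.map (eL.hom.app X)) ≫ μ.app (L'.obj X) =
        β'.app X := congr_app (StructuredArrow.w m) X
    have hnat : RF.map (eL.hom.app X) ≫ μ.app (L'.obj X) =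
        μ.app (L.obj X) ≫ G.map (eL.hom.app X) := μ.naturality (eL.hom.app X)
    change α.app X ≫ μ.app (L.obj X) = eF.hom.app X ≫ β'.app X ≫ G.map (eL.inv.app X)
    rw [← hm]
    simp only [Category.assoc, Iso.hom_inv_id_app_assoc]
    rw [reassoc_of% hnat, ← G.map_comp, Iso.hom_inv_id_app, G.map_id, Category.comp_id]

/-- transport of a right Kan extension along isomorphisms of both functors -/
lemma isRightKanExtension_of_isos (LF : D ⥤ H) (ε : L ⋙ LF ⟶ F) [LF.IsRightKanExtension ε]
    (eL : L ≅ L') (eF : F ≅ F') :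
    LF.IsRightKanExtension (F := F') (L := L')
      (Functor.whiskerRight eL.inv LF ≫ ε ≫ eF.hom) := by
  refine ⟨⟨IsTerminal.ofUniqueHom (fun Y => ?_) (fun Y m => ?_)⟩⟩
  · let G : D ⥤ H := Y.left
    let β' : L' ⋙ G ⟶ F' := Y.hom
    let β : L ⋙ G ⟶ F := Functor.whiskerRight eL.hom G ≫ β' ≫ eF.inv
    let γ : G ⟶ LF := LF.liftOfIsRightKanExtension ε G β
    have hγ : ∀ X, γ.app (L.obj X) ≫ ε.app X = β.app X :=
      fun X => LF.liftOfIsRightKanExtension_fac_app ε G β X
    refine CostructuredArrow.homMk γ ?_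
    ext X
    change γ.app (L'.obj X) ≫ (LF.map (eL.inv.app X) ≫ ε.app X ≫ eF.hom.app X) = β'.app X
    have hnat := γ.naturality (eL.inv.app X)
    rw [← reassoc_of% hnat, reassoc_of% (hγ X)]
    dsimp [β]
    simp only [Category.assoc, Iso.inv_hom_id_app, Category.comp_id]
    rw [← G.map_comp_assoc, Iso.inv_hom_id_app, G.map_id, Category.id_comp]
  · let G : D ⥤ H := Y.left
    let β' : L' ⋙ G ⟶ F' := Y.hom
    let β : L ⋙ G ⟶ F := Functor.whiskerRight eL.hom G ≫ β' ≫ eF.inv
    let γ : G ⟶ LF := LF.liftOfIsRightKanExtension ε G β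
    let μ : G ⟶ LF := m.left
    apply CostructuredArrow.ext
    change μ = γ
    apply LF.hom_ext_of_isRightKanExtension ε
    rw [LF.liftOfIsRightKanExtension_fac ε G β]
    ext X
    have hm : μ.app (L'.obj X) ≫ (LF.map (eL.inv.app X) ≫ ε.app X ≫ eF.hom.app X) =
        β'.app X := congr_app (CostructuredArrow.w m) X
    have hnat : G.map (eL.hom.app X) ≫ μ.app (L'.obj X) =
        μ.app (L.obj X) ≫ LF.map (eL.hom.app X) := μ.naturality (eL.hom.app X)
    change μ.app (L.obj X) ≫ ε.app X = G.map (eL.hom.app X) ≫ β'.app X ≫ eF.inv.app X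
    rw [← hm]
    simp only [Category.assoc, Iso.hom_inv_id_app, Category.comp_id]
    rw [reassoc_of% hnat, ← LF.map_comp_assoc, Iso.hom_inv_id_app, LF.map_id, Category.id_comp]

end Groth.Agent.Helper6.RDL
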