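import Mathlib

set_option linter.unusedSectionVars false
set_option linter.unusedVariables false
set_option linter.unusedSimpArgs false
set_option autoImplicit false
set_option linter.style.haveILetI false
set_option maxHeartbeats 400000

noncomputable section

namespace Groth.Agent.Helper6.RDL

open CategoryTheory CategoryTheory.Limits

section Transfer

variable {C K D H : Type*} [Category C] [Category K] [Category D] [Category H]
  (L₁ : C ⥤ K) (W₀ : MorphismProperty C) [hL₁ : L₁.IsLocalization W₀] (L₂ : K ⥤ D)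

include W₀ hL₁ in
/-- a left Kan extension along `L₂` gives a left Kan extension along `L₁ ⋙ L₂` if `L₁` is a
localization functor -/
lemma isLeftKanExtension_whiskerLeft {F : K ⥤ H} (RF : D ⥤ H) (α : F ⟶ L₂ ⋙ RF)
    [RF.IsLeftKanExtension α] :
    RF.IsLeftKanExtension (F := L₁ ⋙ F) (L := L₁ ⋙ L₂) (Functor.whiskerLeft L₁ α) := by
  refine ⟨⟨IsInitial.ofUniqueHom (fun Y => ?_) (fun Y m => ?_)⟩⟩
  · let G : D ⥤ H := Y.right
    let β : L₁ ⋙ F ⟶ L₁ ⋙ (L₂ ⋙ G) := Y.hom
    letI : Localization.Lifting L₁ W₀ (L₁ ⋙ F) F := ⟨Iso.refl _⟩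
    letI : Localization.Lifting L₁ W₀ (L₁ ⋙ (L₂ ⋙ G)) (L₂ ⋙ G) := ⟨Iso.refl _⟩
    let β' : F ⟶ L₂ ⋙ G := Localization.liftNatTrans L₁ W₀ (L₁ ⋙ F) (L₁ ⋙ (L₂ ⋙ G)) F (L₂ ⋙ G) β
    have hβ' : ∀ X : C, β'.app (L₁.obj X) = β.app X := fun X => by
      dsimp only [β']
      rw [Localization.liftNatTrans_app]
      dsimp [Localization.Lifting.iso]
      rw [Category.id_comp, Category.comp_id]
    let γ : RF ⟶ G := RF.descOfIsLeftKanExtension α G β'
    have hγ : α ≫ Functor.whiskerLeft L₂ γ = β' := RF.descOfIsLeftKanExtension_fac α G β'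
    refine StructuredArrow.homMk γ ?_
    ext X
    have h1 := congr_app hγ (L₁.obj X)
    rw [hβ' X] at h1
    exact h1
  · let G : D ⥤ H := Y.right
    let β : L₁ ⋙ F ⟶ L₁ ⋙ (L₂ ⋙ G) := Y.hom
    letI : Localization.Lifting L₁ W₀ (L₁ ⋙ F) F := ⟨Iso.refl _⟩
    letI : Localization.Lifting L₁ W₀ (L₁ ⋙ (L₂ ⋙ G)) (L₂ ⋙ G) := ⟨Iso.refl _⟩
    let β' : F ⟶ L₂ ⋙ G := Localization.liftNatTrans L₁ W₀ (L₁ ⋙ F) (L₁ ⋙ (L₂ ⋙ G)) F (L₂ ⋙ G) β
    have hβ' : ∀ X : C, β'.app (L₁.obj X) = β.app X := fun X => by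
      dsimp only [β']
      rw [Localization.liftNatTrans_app]
      dsimp [Localization.Lifting.iso]
      rw [Category.id_comp, Category.comp_id]
    let γ : RF ⟶ G := RF.descOfIsLeftKanExtension α G β'
    have hγ : α ≫ Functor.whiskerLeft L₂ γ = β' := RF.descOfIsLeftKanExtension_fac α G β'
    apply StructuredArrow.ext
    change m.right = γ
    apply RF.hom_ext_of_isLeftKanExtension α
    rw [hγ]
    apply Localization.natTrans_ext L₁ W₀
    intro X
    rw [hβ' X]
    have hm := congr_app (StructuredArrow.w m) X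
    exact hm

include W₀ hL₁ in
/-- a right Kan extension along `L₂` gives a right Kan extension along `L₁ ⋙ L₂` if `L₁` is a
localization functor -/
lemma isRightKanExtension_whiskerLeft {F : K ⥤ H} (LF : D ⥤ H) (ε : L₂ ⋙ LF ⟶ F)
    [LF.IsRightKanExtension ε] :
    LF.IsRightKanExtension (F := L₁ ⋙ F) (L := L₁ ⋙ L₂) (Functor.whiskerLeft L₁ ε) := by
  refine ⟨⟨IsTerminal.ofUniqueHom (fun Y => ?_) (fun Y m => ?_)⟩⟩
  · let G : D ⥤ H := Y.left
    let β : L₁ ⋙ (L₂ ⋙ G) ⟶ L₁ ⋙ F := Y.hom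
    letI : Localization.Lifting L₁ W₀ (L₁ ⋙ F) F := ⟨Iso.refl _⟩
    letI : Localization.Lifting L₁ W₀ (L₁ ⋙ (L₂ ⋙ G)) (L₂ ⋙ G) := ⟨Iso.refl _⟩
    let β' : L₂ ⋙ G ⟶ F := Localization.liftNatTrans L₁ W₀ (L₁ ⋙ (L₂ ⋙ G)) (L₁ ⋙ F) (L₂ ⋙ G) F β
    have hβ' : ∀ X : C, β'.app (L₁.obj X) = β.app X := fun X => by
      dsimp only [β']
      rw [Localization.liftNatTrans_app]
      dsimp [Localization.Lifting.iso]
      rw [Category.id_comp, Category.comp_id]
    let γ : G ⟶ LF := LF.liftOfIsRightKanExtension ε G β'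
    have hγ : Functor.whiskerLeft L₂ γ ≫ ε = β' := LF.liftOfIsRightKanExtension_fac ε G β'
    refine CostructuredArrow.homMk γ ?_
    ext X
    have h1 := congr_app hγ (L₁.obj X)
    rw [hβ' X] at h1
    exact h1
  · let G : D ⥤ H := Y.left
    let β : L₁ ⋙ (L₂ ⋙ G) ⟶ L₁ ⋙ F := Y.hom
    letI : Localization.Lifting L₁ W₀ (L₁ ⋙ F) F := ⟨Iso.refl _⟩
    letI : Localization.Lifting L₁ W₀ (L₁ ⋙ (L₂ ⋙ G)) (L₂ ⋙ G) := ⟨Iso.refl _⟩
    let β' : L₂ ⋙ G ⟶ F := Localization.liftNatTrans L₁ W₀ (L₁ ⋙ (L₂ ⋙ G)) (L₁ ⋙ F) (L₂ ⋙ G) F β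
    have hβ' : ∀ X : C, β'.app (L₁.obj X) = β.app X := fun X => by
      dsimp only [β']
      rw [Localization.liftNatTrans_app]
      dsimp [Localization.Lifting.iso]
      rw [Category.id_comp, Category.comp_id]
    let γ : G ⟶ LF := LF.liftOfIsRightKanExtension ε G β'
    have hγ : Functor.whiskerLeft L₂ γ ≫ ε = β' := LF.liftOfIsRightKanExtension_fac ε G β'
    apply CostructuredArrow.ext
    change m.left = γ
    apply LF.hom_ext_of_isRightKanExtension ε
    rw [hγ]
    apply Localization.natTrans_ext L₁ W₀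
    intro X
    rw [hβ' X]
    have hm := congr_app (CostructuredArrow.w m) X
    exact hm

end Transfer

section Descent

variable {R C D : Type*} [Category R] [Category C] [Category D]

/-- natural isomorphisms descend along full and essentially surjective functors -/
def natIsoDescent (p : R ⥤ C) [p.Full] [p.EssSurj] {S T : C ⥤ D} (e : p ⋙ S ≅ p ⋙ T) :
    S ≅ T :=
  NatIso.ofComponents
    (fun c => S.mapIso (p.objObjPreimageIso c).symm ≪≫ e.app (p.objPreimage c) ≪≫
      T.mapIso (p.objObjPreimageIso c))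
    (by
      intro c c' f
      obtain ⟨g, hg⟩ := p.map_surjective
        ((p.objObjPreimageIso c).hom ≫ f ≫ (p.objObjPreimageIso c').inv)
      have hnat := e.hom.naturality g
      dsimp at hnat ⊢
      have h1 : S.map f ≫ S.map (p.objObjPreimageIso c').inv =
          S.map (p.objObjPreimageIso c).inv ≫ S.map (p.map g) := by
        rw [← S.map_comp, ← S.map_comp, hg, Iso.inv_hom_id_assoc]
      have h2 : T.map (p.map g) ≫ T.map (p.objObjPreimageIso c').hom =
          T.map (p.objObjPreimageIso c).hom ≫ T.map f := by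
        rw [← T.map_comp, ← T.map_comp, hg, Category.assoc, Category.assoc, Iso.inv_hom_id,
          Category.comp_id]
      rw [reassoc_of% h1, reassoc_of% hnat, h2]
      simp only [Category.assoc])

end Descent

section OpDual

variable {C D H : Type*} [Category C] [Category D] [Category H]
  {L : C ⥤ D} {F : C ⥤ H}

/-- a left Kan extension of `F.op` along `L.op` gives a right Kan extension of `F` along `L` -/
lemma isRightKanExtension_unop (F'' : Dᵒᵖ ⥤ Hᵒᵖ) (α'' : F.op ⟶ L.op ⋙ F'')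
    [F''.IsLeftKanExtension α''] :
    F''.unop.IsRightKanExtension (F := F) (L := L) (NatTrans.unop α'') := by
  refine ⟨⟨IsTerminal.ofUniqueHom (fun Y => ?_) (fun Y m => ?_)⟩⟩
  · let G : D ⥤ H := Y.left
    let β : L ⋙ G ⟶ F := Y.hom
    let γ'' : F'' ⟶ G.op := F''.descOfIsLeftKanExtension α'' G.op (NatTrans.op β)
    have hγ : α'' ≫ Functor.whiskerLeft L.op γ'' = NatTrans.op β :=
      F''.descOfIsLeftKanExtension_fac α'' G.op (NatTrans.op β)
    refine CostructuredArrow.homMk (NatTrans.unop γ'') ?_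
    ext X
    have h1 := congr_app hγ (Opposite.op X)
    exact Quiver.Hom.op_inj h1
  · let G : D ⥤ H := Y.left
    let β : L ⋙ G ⟶ F := Y.hom
    let γ'' : F'' ⟶ G.op := F''.descOfIsLeftKanExtension α'' G.op (NatTrans.op β)
    apply CostructuredArrow.ext
    change m.left = NatTrans.unop γ''
    have hm : Functor.whiskerLeft L m.left ≫ NatTrans.unop α'' = β := CostructuredArrow.w m
    have : (NatTrans.op m.left : F''.unop.op ⟶ G.op) = γ'' := by
      apply F''.hom_ext_of_isLeftKanExtension α''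
      rw [F''.descOfIsLeftKanExtension_fac α'' G.op (NatTrans.op β)]
      ext X
      have h1 := congr_app hm X.unop
      exact Quiver.Hom.unop_inj h1
    rw [← this]
    rfl

end OpDual

end Groth.Agent.Helper6.RDL
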