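import Mathlib
import Groth.Agent.Lib.Helper6.RDL.KanLoc
import Groth.Agent.Lib.Helper6.RDL.KanIso

set_option linter.unusedSectionVars false
set_option linter.unusedVariables false
set_option linter.unusedSimpArgs false
set_option autoImplicit false
set_option linter.style.haveILetI false
set_option maxHeartbeats 400000

universe w w' v u v' u'

noncomputable section

namespace Groth.Agent.Helper6.RDL

open CategoryTheory CategoryTheory.Limits

variable {A : Type u} [Category.{v} A] [Abelian A] [HasDerivedCategory.{w} A]
  {B : Type u'} [Category.{v'} B] [Abelian B] [HasDerivedCategory.{w'} B]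
  (H : A ⥤ B) [H.Additive]

/-- the functor induced by `H` from the homotopy category to the derived category -/
abbrev Hk : HomotopyCategory A (ComplexShape.up ℤ) ⥤ DerivedCategory B :=
  H.mapHomotopyCategory (ComplexShape.up ℤ) ⋙ DerivedCategory.Qh

/-- the functor induced by `H` from cochain complexes to the derived category -/
abbrev Hc : CochainComplex A ℤ ⥤ DerivedCategory B :=
  H.mapHomologicalComplex (ComplexShape.up ℤ) ⋙ DerivedCategory.Q

/-- the comparison between both functors -/
def isoHkHc : HomotopyCategory.quotient A (ComplexShape.up ℤ) ⋙ Hk H ≅ Hc H :=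
  (Functor.associator _ _ _).symm ≪≫
    Functor.isoWhiskerRight (H.mapHomotopyCategoryFactors (ComplexShape.up ℤ))
      DerivedCategory.Qh ≪≫ Functor.associator _ _ _ ≪≫
    Functor.isoWhiskerLeft (H.mapHomologicalComplex (ComplexShape.up ℤ))
      (DerivedCategory.quotientCompQhIso B)

section Right

variable (RF : DerivedCategory A ⥤ DerivedCategory B) (α : Hk H ⟶ DerivedCategory.Qh ⋙ RF)

/-- the chain level unit deduced from a unit on the homotopy category -/
def unitC : Hc H ⟶ DerivedCategory.Q ⋙ RF :=
  (isoHkHc H).inv ≫ (Functor.whiskerLeft (HomotopyCategory.quotient A (ComplexShape.up ℤ)) α ≫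
    Functor.whiskerRight (DerivedCategory.quotientCompQhIso A).hom RF :)

lemma unitC_app (X : CochainComplex A ℤ) :
    (unitC H RF α).app X = (isoHkHc H).inv.app X ≫
      α.app ((HomotopyCategory.quotient A (ComplexShape.up ℤ)).obj X) ≫
        RF.map ((DerivedCategory.quotientCompQhIso A).hom.app X) := rfl

lemma isIso_unitC_app (X : CochainComplex A ℤ)
    (h : IsIso (α.app ((HomotopyCategory.quotient A (ComplexShape.up ℤ)).obj X))) :
    IsIso ((unitC H RF α).app X) := by
  rw [unitC_app]
  infer_instance

instance isRightDerivedFunctor_unitC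
    [RF.IsRightDerivedFunctor α (HomotopyCategory.quasiIso A (ComplexShape.up ℤ))] :
    RF.IsRightDerivedFunctor (unitC H RF α)
      (HomologicalComplex.quasiIso A (ComplexShape.up ℤ)) := by
  haveI : RF.IsLeftKanExtension α :=
    Functor.IsRightDerivedFunctor.isLeftKanExtension RF α
      (HomotopyCategory.quasiIso A (ComplexShape.up ℤ))
  rw [Functor.isRightDerivedFunctor_iff_isLeftKanExtension]
  haveI := isLeftKanExtension_whiskerLeft (HomotopyCategory.quotient A (ComplexShape.up ℤ))
    (HomologicalComplex.homotopyEquivalences A (ComplexShape.up ℤ)) DerivedCategory.Qh RF α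
  exact isLeftKanExtension_of_isos
    (L := HomotopyCategory.quotient A (ComplexShape.up ℤ) ⋙ DerivedCategory.Qh)
    (F := HomotopyCategory.quotient A (ComplexShape.up ℤ) ⋙ Hk H) RF
    (Functor.whiskerLeft (HomotopyCategory.quotient A (ComplexShape.up ℤ)) α)
    (DerivedCategory.quotientCompQhIso A) (isoHkHc H)

end Right

section Left

variable (LF : DerivedCategory A ⥤ DerivedCategory B) (ε : DerivedCategory.Qh ⋙ LF ⟶ Hk H)

/-- the chain level counit deduced from a counit on the homotopy category -/
def counitC : DerivedCategory.Q ⋙ LF ⟶ Hc H :=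
  (Functor.whiskerRight (DerivedCategory.quotientCompQhIso A).inv LF ≫
    Functor.whiskerLeft (HomotopyCategory.quotient A (ComplexShape.up ℤ)) ε :) ≫ (isoHkHc H).hom

lemma counitC_app (X : CochainComplex A ℤ) :
    (counitC H LF ε).app X = (LF.map ((DerivedCategory.quotientCompQhIso A).inv.app X) ≫
      ε.app ((HomotopyCategory.quotient A (ComplexShape.up ℤ)).obj X)) ≫
        (isoHkHc H).hom.app X := rfl

lemma isIso_counitC_app (X : CochainComplex A ℤ)
    (h : IsIso (ε.app ((HomotopyCategory.quotient A (ComplexShape.up ℤ)).obj X))) :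
    IsIso ((counitC H LF ε).app X) := by
  rw [counitC_app]
  infer_instance

instance isLeftDerivedFunctor_counitC
    [LF.IsLeftDerivedFunctor ε (HomotopyCategory.quasiIso A (ComplexShape.up ℤ))] :
    LF.IsLeftDerivedFunctor (counitC H LF ε)
      (HomologicalComplex.quasiIso A (ComplexShape.up ℤ)) := by
  haveI : LF.IsRightKanExtension ε :=
    Functor.IsLeftDerivedFunctor.isRightKanExtension LF ε
      (HomotopyCategory.quasiIso A (ComplexShape.up ℤ))
  rw [Functor.isLeftDerivedFunctor_iff_isRightKanExtension]
  haveI := isRightKanExtension_whiskerLeft (HomotopyCategory.quotient A (ComplexShape.up ℤ))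
    (HomologicalComplex.homotopyEquivalences A (ComplexShape.up ℤ)) DerivedCategory.Qh LF ε
  have h := isRightKanExtension_of_isos
    (L := HomotopyCategory.quotient A (ComplexShape.up ℤ) ⋙ DerivedCategory.Qh)
    (F := HomotopyCategory.quotient A (ComplexShape.up ℤ) ⋙ Hk H) LF
    (Functor.whiskerLeft (HomotopyCategory.quotient A (ComplexShape.up ℤ)) ε)
    (DerivedCategory.quotientCompQhIso A) (isoHkHc H)
  have e : counitC H LF ε = Functor.whiskerRight (DerivedCategory.quotientCompQhIso A).inv LF ≫
      Functor.whiskerLeft (HomotopyCategory.quotient A (ComplexShape.up ℤ)) ε ≫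
        (isoHkHc H).hom := by
    ext X
    rw [counitC_app]
    simp only [Category.assoc]
    rfl
  rw [e]
  exact h

end Left

section Unique

/-- if the unit of some chain level right derived functor is an isomorphism at `X`, so is the unit
of any right derived functor -/
lemma isIso_unit_app_of_isRightDerivedFunctor
    (RF RF' : DerivedCategory A ⥤ DerivedCategory B)
    (α : Hc H ⟶ DerivedCategory.Q ⋙ RF) (α' : Hc H ⟶ DerivedCategory.Q ⋙ RF')
    [RF.IsRightDerivedFunctor α (HomologicalComplex.quasiIso A (ComplexShape.up ℤ))]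
    [RF'.IsRightDerivedFunctor α' (HomologicalComplex.quasiIso A (ComplexShape.up ℤ))]
    (X : CochainComplex A ℤ) (h : IsIso (α'.app X)) : IsIso (α.app X) := by
  let e : RF ≅ RF' := Functor.rightDerivedUnique RF RF' α α'
    (HomologicalComplex.quasiIso A (ComplexShape.up ℤ))
  have he : α.app X ≫ e.hom.app (DerivedCategory.Q.obj X) = α'.app X := by
    have := Functor.rightDerivedNatTrans_app RF RF' α α'
      (HomologicalComplex.quasiIso A (ComplexShape.up ℤ)) (𝟙 _) X
    rw [NatTrans.id_app, Category.id_comp] at this
    exact this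
  have : α.app X = α'.app X ≫ e.inv.app (DerivedCategory.Q.obj X) := by
    rw [← he, Category.assoc, Iso.hom_inv_id_app]
    exact (Category.comp_id _).symm
  rw [this]
  infer_instance

/-- if the counit of some chain level left derived functor is an isomorphism at `X`, so is the
counit of any left derived functor -/
lemma isIso_counit_app_of_isLeftDerivedFunctor
    (LF LF' : DerivedCategory A ⥤ DerivedCategory B)
    (ε : DerivedCategory.Q ⋙ LF ⟶ Hc H) (ε' : DerivedCategory.Q ⋙ LF' ⟶ Hc H)
    [LF.IsLeftDerivedFunctor ε (HomologicalComplex.quasiIso A (ComplexShape.up ℤ))]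
    [LF'.IsLeftDerivedFunctor ε' (HomologicalComplex.quasiIso A (ComplexShape.up ℤ))]
    (X : CochainComplex A ℤ) (h : IsIso (ε'.app X)) : IsIso (ε.app X) := by
  let e : LF ≅ LF' := Functor.leftDerivedNatIso LF LF' ε ε'
    (HomologicalComplex.quasiIso A (ComplexShape.up ℤ)) (Iso.refl _)
  have he : e.hom.app (DerivedCategory.Q.obj X) ≫ ε'.app X = ε.app X := by
    have := Functor.leftDerivedNatTrans_app LF LF' ε ε'
      (HomologicalComplex.quasiIso A (ComplexShape.up ℤ)) (𝟙 _) X
    rw [NatTrans.id_app, Category.comp_id] at this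
    exact this
  rw [← he]
  infer_instance

end Unique

end Groth.Agent.Helper6.RDL
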