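import Mathlib
import Groth.Agent.Lib.Helper6.RDL.TwG

set_option linter.unusedSectionVars false
set_option linter.unusedVariables false
set_option linter.unusedSimpArgs false
set_option autoImplicit false
set_option linter.style.haveILetI false
set_option maxHeartbeats 400000

universe v u

noncomputable section

namespace Groth.Agent.Helper6.RDL

open CategoryTheory CategoryTheory.Limits

variable {A : Type u} [Category.{v} A] [Abelian A] (P : ObjectProperty A)
  (hcov : ∀ X : A, ∃ (Y : A) (p : Y ⟶ X), Epi p ∧ P Y)

/-- a chosen cover in the class `P` -/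
def cov (X : A) : A := (hcov X).choose

/-- the chosen epimorphism from the cover -/
def covπ (X : A) : cov P hcov X ⟶ X := (hcov X).choose_spec.choose

instance (X : A) : Epi (covπ P hcov X) := (hcov X).choose_spec.choose_spec.1

lemma cov_prop (X : A) : P (cov P hcov X) := (hcov X).choose_spec.choose_spec.2

variable (K : CochainComplex A ℤ)

/-- the terms of the complex covering `K` -/
abbrev coX (p : ℤ) : A := cov P hcov (K.X p) ⊞ cov P hcov (K.X (p - 1))

/-- the differentials of the complex covering `K` -/
def coD (p : ℤ) : coX P hcov K p ⟶ coX P hcov K (p + 1) :=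
  biprod.fst ≫ eqToHom (by rw [add_sub_cancel_right]) ≫ biprod.inr

lemma coD_comp (p : ℤ) : coD P hcov K p ≫ coD P hcov K (p + 1) = 0 := by
  dsimp only [coD]
  simp only [Category.assoc, biprod.inr_fst_assoc, zero_comp, comp_zero]

/-- a complex with terms in `P` covering `K` -/
def coCplx : CochainComplex A ℤ :=
  CochainComplex.of (coX P hcov K) (coD P hcov K) (coD_comp P hcov K)

lemma coCplx_prop (hP : IsAddClass P) (p : ℤ) : P ((coCplx P hcov K).X p) :=
  hP.biprod (cov_prop P hcov _) (cov_prop P hcov _)

/-- the components of the covering -/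
def coF (p : ℤ) : coX P hcov K p ⟶ K.X p :=
  biprod.desc (covπ P hcov (K.X p)) (covπ P hcov (K.X (p - 1)) ≫ K.d (p - 1) p)

lemma coF_aux (p q : ℤ) (h : q = p) :
    eqToHom (by rw [h]) ≫ covπ P hcov (K.X q) ≫ K.d q (p + 1) =
      covπ P hcov (K.X p) ≫ K.d p (p + 1) := by
  subst h
  simp

lemma coF_comm (p : ℤ) :
    coF P hcov K p ≫ K.d p (p + 1) = coD P hcov K p ≫ coF P hcov K (p + 1) := by
  dsimp only [coF, coD]
  apply biprod.hom_ext'
  · simp only [biprod.inl_desc_assoc, Category.assoc, biprod.inl_fst_assoc, biprod.inr_desc]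
    exact (coF_aux P hcov K p (p + 1 - 1) (by ring)).symm
  · simp

/-- the covering of `K` by a complex with terms in `P` -/
def coHom : coCplx P hcov K ⟶ K where
  f p := coF P hcov K p
  comm' p q hpq := by
    obtain rfl : p + 1 = q := hpq
    have h : (coCplx P hcov K).d p (p + 1) = coD P hcov K p := CochainComplex.of_d _ _ p
    rw [h]
    exact coF_comm P hcov K p

instance (p : ℤ) : Epi ((coHom P hcov K).f p) := by
  have h : (biprod.inl : _ ⟶ coX P hcov K p) ≫ (coHom P hcov K).f p = covπ P hcov (K.X p) :=
    biprod.inl_desc _ _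
  exact epi_of_epi_fac h

instance : Epi (coHom P hcov K) := HomologicalComplex.epi_of_epi_f _ inferInstance

/-- the short exact sequence `N → Jc → K` -/
def coSC : ShortComplex (CochainComplex A ℤ) :=
  ShortComplex.mk (kernel.ι (coHom P hcov K)) (coHom P hcov K) (kernel.condition _)

lemma coSC_shortExact : (coSC P hcov K).ShortExact :=
  ShortComplex.ShortExact.mk' (ShortComplex.exact_kernel _)
    (inferInstanceAs (Mono (kernel.ι (coHom P hcov K))))
    (inferInstanceAs (Epi (coHom P hcov K)))

lemma coSC_shortExact_eval (p : ℤ) :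
    ((coSC P hcov K).map (HomologicalComplex.eval A (ComplexShape.up ℤ) p)).ShortExact :=
  (coSC_shortExact P hcov K).map_of_exact _

end Groth.Agent.Helper6.RDL
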