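import Mathlib
import Groth.Agent.Lib.Helper6.RDL.CoEmbed

set_option linter.unusedSectionVars false
set_option linter.unusedVariables false
set_option linter.unusedSimpArgs false
set_option autoImplicit false
set_option linter.style.haveILetI false
set_option maxHeartbeats 400000

universe w v u

noncomputable section

namespace Groth.Agent.Helper6.RDL

open CategoryTheory CategoryTheory.Limits Pretriangulated

variable {A : Type u} [Category.{v} A] [Abelian A] [HasDerivedCategory.{w} A]
  (P : ObjectProperty A) (hP : IsAddClass P)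
  (hcov : ∀ X : A, ∃ (Y : A) (p : Y ⟶ X), Epi p ∧ P Y)
  (Lc : ℕ → ObjectProperty A)
  (hstep : ∀ (j : ℕ) (S : ShortComplex A), S.ShortExact → P S.X₂ → Lc (j + 1) S.X₃ → Lc j S.X₁)

include hP hcov hstep in
/-- one step of the construction of left resolutions -/
lemma exists_stepL (j : ℕ) (K : CochainComplex A ℤ) (hK : ∀ p, Lc (j + 1) (K.X p))
    (IH : ∀ X, TwG (Lc j) X → ∃ (Y : HomotopyCategory A (ComplexShape.up ℤ)) (s : Y ⟶ X),
      TwG P Y ∧ HomotopyCategory.quasiIso A (ComplexShape.up ℤ) s) :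
    ∃ (L : CochainComplex A ℤ)
      (c : (HomotopyCategory.quotient A (ComplexShape.up ℤ)).obj L ⟶
        (HomotopyCategory.quotient A (ComplexShape.up ℤ)).obj K),
      (∀ p, P (L.X p)) ∧ HomotopyCategory.quasiIso A (ComplexShape.up ℤ) c := by
  let S := coSC P hcov K
  have hS : S.ShortExact := coSC_shortExact P hcov K
  have hN : ∀ p, Lc j (S.X₁.X p) := fun p =>
    hstep j (S.map (HomologicalComplex.eval A (ComplexShape.up ℤ) p))
      (coSC_shortExact_eval P hcov K p) (coCplx_prop P hcov K hP p) (hK p)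
  obtain ⟨Y, s, ⟨L', hL', ⟨eY⟩⟩, hs⟩ := IH _ (TwG_quotient_obj S.X₁ hN)
  have hq' : HomotopyCategory.quasiIso A (ComplexShape.up ℤ) (eY.inv ≫ s) :=
    MorphismProperty.RespectsIso.precomp _ eY.inv _ hs
  obtain ⟨q, hq⟩ := (HomotopyCategory.quotient A (ComplexShape.up ℤ)).map_surjective (eY.inv ≫ s)
  let g : L' ⟶ coCplx P hcov K := q ≫ S.f
  have hL : ∀ p, P ((CochainComplex.mappingCone g).X p) :=
    prop_mappingCone hP g hL' (coCplx_prop P hcov K hP)
  let T₁ := CochainComplex.mappingCone.triangleh S.f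
  let T₂ := CochainComplex.mappingCone.triangleh g
  have hT₁ : T₁ ∈ distTriang _ := HomotopyCategory.mappingCone_triangleh_distinguished S.f
  have hT₂ : T₂ ∈ distTriang _ := HomotopyCategory.mappingCone_triangleh_distinguished g
  let a : T₂.obj₁ ⟶ T₁.obj₁ := (HomotopyCategory.quotient A (ComplexShape.up ℤ)).map q
  let b : T₂.obj₂ ⟶ T₁.obj₂ := 𝟙 _
  have comm : T₂.mor₁ ≫ b = a ≫ T₁.mor₁ := by
    change (HomotopyCategory.quotient A (ComplexShape.up ℤ)).map g ≫ 𝟙 _ =
      (HomotopyCategory.quotient A (ComplexShape.up ℤ)).map q ≫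
        (HomotopyCategory.quotient A (ComplexShape.up ℤ)).map S.f
    rw [Category.comp_id, ← Functor.map_comp]
    rfl
  obtain ⟨c, hc₁, hc₂⟩ := complete_distinguished_triangle_morphism _ _ hT₂ hT₁ a b comm
  let φ : T₂ ⟶ T₁ :=
    { hom₁ := a, hom₂ := b, hom₃ := c, comm₁ := comm, comm₂ := hc₁, comm₃ := hc₂ }
  let ψ := (DerivedCategory.Qh (C := A)).mapTriangle.map φ
  have h₁ : IsIso ψ.hom₁ := by
    change IsIso (DerivedCategory.Qh.map a)
    rw [DerivedCategory.isIso_Qh_map_iff]
    change HomotopyCategory.quasiIso A (ComplexShape.up ℤ)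
      ((HomotopyCategory.quotient A (ComplexShape.up ℤ)).map q)
    rw [hq]
    exact hq'
  have h₂ : IsIso ψ.hom₂ := by
    change IsIso (DerivedCategory.Qh.map (𝟙 _))
    infer_instance
  have h₃ : IsIso ψ.hom₃ :=
    isIso₃_of_isIso₁₂ ψ (DerivedCategory.Qh.map_distinguished _ hT₂)
      (DerivedCategory.Qh.map_distinguished _ hT₁) h₁ h₂
  have hc : HomotopyCategory.quasiIso A (ComplexShape.up ℤ) c :=
    (DerivedCategory.isIso_Qh_map_iff c).1 h₃
  have h1 : HomotopyCategory.quasiIso A (ComplexShape.up ℤ)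
      ((HomotopyCategory.quotient A (ComplexShape.up ℤ)).map
        (CochainComplex.mappingCone.descShortComplex S)) := by
    rw [HomotopyCategory.quotient_map_mem_quasiIso_iff]
    exact CochainComplex.mappingCone.quasiIso_descShortComplex hS
  exact ⟨CochainComplex.mappingCone g,
    c ≫ (HomotopyCategory.quotient A (ComplexShape.up ℤ)).map
      (CochainComplex.mappingCone.descShortComplex S), hL,
    MorphismProperty.comp_mem _ _ _ hc h1⟩

include hP hcov hstep in
/-- every complex with terms in `Lc j` admits a quasi-isomorphism from a complex with terms in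
`P` -/
theorem exists_left_resolution_aux (h0 : ∀ X, Lc 0 X → P X) (j : ℕ) :
    ∀ X, TwG (Lc j) X → ∃ (Y : HomotopyCategory A (ComplexShape.up ℤ)) (s : Y ⟶ X),
      TwG P Y ∧ HomotopyCategory.quasiIso A (ComplexShape.up ℤ) s := by
  induction j with
  | zero =>
    rintro X ⟨K, hK, ⟨e⟩⟩
    exact ⟨X, 𝟙 X, ⟨K, fun p => h0 _ (hK p), ⟨e⟩⟩,
      (HomotopyCategory.quasiIso A (ComplexShape.up ℤ)).id_mem X⟩
  | succ j ih =>
    rintro X ⟨K, hK, ⟨e⟩⟩
    obtain ⟨L, c, hL, hc⟩ := exists_stepL P hP hcov Lc hstep j K hK ih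
    exact ⟨(HomotopyCategory.quotient A (ComplexShape.up ℤ)).obj L, c ≫ e.inv,
      TwG_quotient_obj L hL, MorphismProperty.RespectsIso.postcomp _ e.inv _ hc⟩

include hP hcov hstep in
/-- if every object lies in some `Lc n`, every object of the homotopy category admits a
quasi-isomorphism from a complex with terms in `P` -/
theorem exists_left_resolution (h0 : ∀ X, Lc 0 X → P X) (n : ℕ) (hn : ∀ X, Lc n X)
    (X : HomotopyCategory A (ComplexShape.up ℤ)) :
    ∃ (Y : HomotopyCategory A (ComplexShape.up ℤ)) (s : Y ⟶ X),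
      TwG P Y ∧ HomotopyCategory.quasiIso A (ComplexShape.up ℤ) s := by
  obtain ⟨K, rfl⟩ := HomotopyCategory.quotient_obj_surjective X
  exact exists_left_resolution_aux P hP hcov Lc hstep h0 n _
    (TwG_quotient_obj K (fun p => hn _))

end Groth.Agent.Helper6.RDL
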