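import Mathlib

set_option linter.unusedSectionVars false
set_option linter.unusedVariables false
set_option linter.unusedSimpArgs false
set_option autoImplicit false
set_option linter.style.haveILetI false
set_option maxHeartbeats 400000

universe w v u

noncomputable section

namespace Groth.Agent.Helper6.RDL

open CategoryTheory CategoryTheory.Limits Pretriangulated

variable {B : Type u} [Category.{v} B] [Abelian B] [HasDerivedCategory.{w} B]

section SES

variable {S : ShortComplex (CochainComplex B ℤ)} (hS : S.ShortExact)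

include hS in
lemma isZero_Q_X₃_of_shortExact (h₁ : IsZero (DerivedCategory.Q.obj S.X₁))
    (h₂ : IsZero (DerivedCategory.Q.obj S.X₂)) : IsZero (DerivedCategory.Q.obj S.X₃) := by
  have hT := DerivedCategory.triangleOfSES_distinguished hS
  have : IsIso (DerivedCategory.triangleOfSES hS).mor₁ :=
    ⟨0, h₁.eq_of_src _ _, h₂.eq_of_src _ _⟩
  exact Triangle.isZero₃_of_isIso₁ _ hT this

include hS in
lemma isIso_Q_map_g_of_shortExact (h₁ : IsZero (DerivedCategory.Q.obj S.X₁)) :
    IsIso (DerivedCategory.Q.map S.g) :=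
  (Triangle.isZero₁_iff_isIso₂ _ (DerivedCategory.triangleOfSES_distinguished hS)).1 h₁

include hS in
lemma isIso_triangleOfSESδ (h₂ : IsZero (DerivedCategory.Q.obj S.X₂)) :
    IsIso (DerivedCategory.triangleOfSESδ hS) :=
  (Triangle.isZero₂_iff_isIso₃ _ (DerivedCategory.triangleOfSES_distinguished hS)).1 h₂

end SES

section FourTerm

variable {X₁ X₂ X₃ X₄ : CochainComplex B ℤ} (f : X₁ ⟶ X₂) (g : X₂ ⟶ X₃) (h : X₃ ⟶ X₄)
  (w₁ : f ≫ g = 0) (w₂ : g ≫ h = 0)

include w₁ w₂ in
/-- in an exact sequence `0 → X₁ → X₂ → X₃ → X₄ → 0` of complexes with `X₁` and `X₂` acyclic,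
the last map is a quasi-isomorphism -/
lemma isIso_Q_map_of_fourTerm [Mono f] [Epi h] (ex₁ : (ShortComplex.mk f g w₁).Exact)
    (ex₂ : (ShortComplex.mk g h w₂).Exact)
    (h₁ : IsZero (DerivedCategory.Q.obj X₁)) (h₂ : IsZero (DerivedCategory.Q.obj X₂)) :
    IsIso (DerivedCategory.Q.map h) := by
  let S₁ : ShortComplex (CochainComplex B ℤ) :=
    ShortComplex.mk f (cokernel.π f) (cokernel.condition f)
  have hS₁ : S₁.ShortExact :=
    ShortComplex.ShortExact.mk' (ShortComplex.exact_cokernel f) (inferInstanceAs (Mono f))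
      (inferInstanceAs (Epi (cokernel.π f)))
  have hZ : IsZero (DerivedCategory.Q.obj (cokernel f)) :=
    isZero_Q_X₃_of_shortExact hS₁ h₁ h₂
  let u : cokernel f ⟶ X₃ := cokernel.desc f g w₁
  have hu : cokernel.π f ≫ u = g := cokernel.π_desc _ _ _
  have wu : u ≫ h = 0 := by
    rw [← cancel_epi (cokernel.π f), reassoc_of% hu, w₂, comp_zero]
  haveI : Mono u := ex₁.mono_cokernelDesc
  let S₂ : ShortComplex (CochainComplex B ℤ) := ShortComplex.mk u h wu
  let φ : ShortComplex.mk g h w₂ ⟶ S₂ :=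
    { τ₁ := cokernel.π f
      τ₂ := 𝟙 _
      τ₃ := 𝟙 _
      comm₁₂ := by
        change cokernel.π f ≫ u = g ≫ 𝟙 _
        rw [hu, Category.comp_id]
      comm₂₃ := by
        change 𝟙 _ ≫ h = h ≫ 𝟙 _
        rw [Category.id_comp, Category.comp_id] }
  haveI : Epi φ.τ₁ := inferInstanceAs (Epi (cokernel.π f))
  haveI : IsIso φ.τ₂ := inferInstanceAs (IsIso (𝟙 _))
  haveI : Mono φ.τ₃ := inferInstanceAs (Mono (𝟙 _))
  have hS₂ : S₂.ShortExact :=
    ShortComplex.ShortExact.mk' ((ShortComplex.exact_iff_of_epi_of_isIso_of_mono φ).1 ex₂)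
      (inferInstanceAs (Mono u)) (inferInstanceAs (Epi h))
  exact isIso_Q_map_g_of_shortExact hS₂ hZ

end FourTerm

end Groth.Agent.Helper6.RDL
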