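import Mathlib
import Groth.Agent.Lib.Helper6.RDL.Classes
import Groth.Agent.Lib.Helper6.RDL.FourTerm

set_option linter.unusedSectionVars false
set_option linter.unusedVariables false
set_option linter.unusedSimpArgs false
set_option autoImplicit false
set_option linter.style.haveILetI false
set_option maxHeartbeats 400000

universe w w' v u v' u'

noncomputable section

namespace Groth.Agent.Helper6.RDL

open CategoryTheory CategoryTheory.Limits Groth.Agent.Helper6.RDU

variable {A : Type u} [Category.{v} A] [Abelian A] [HasInjectiveResolutions A]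
  {B : Type u'} [Category.{v'} B] [Abelian B] (F : A ⥤ B) [F.Additive]

/-- the functor induced by `RᵏF` on cochain complexes -/
abbrev Rc (k : ℕ) : CochainComplex A ℤ ⥤ CochainComplex B ℤ :=
  (F.rightDerived k).mapHomologicalComplex (ComplexShape.up ℤ)

/-- the short complex in degree `p` -/
abbrev evSC (S : ShortComplex (CochainComplex A ℤ)) (p : ℤ) : ShortComplex A :=
  S.map (HomologicalComplex.eval A (ComplexShape.up ℤ) p)

lemma evSC_shortExact {S : ShortComplex (CochainComplex A ℤ)} (hS : S.ShortExact) (p : ℤ) :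
    (evSC S p).ShortExact :=
  hS.map_of_exact _

/-- the morphism between the short complexes in degrees `p` and `q` given by the differentials -/
def evSCd (S : ShortComplex (CochainComplex A ℤ)) (p q : ℤ) : evSC S p ⟶ evSC S q where
  τ₁ := S.X₁.d p q
  τ₂ := S.X₂.d p q
  τ₃ := S.X₃.d p q
  comm₁₂ := (S.f.comm p q).symm
  comm₂₃ := (S.g.comm p q).symm

variable {S S' : ShortComplex (CochainComplex A ℤ)} (hS : S.ShortExact) (hS' : S'.ShortExact)

/-- the connecting morphisms as a morphism of complexes -/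
def δc (k : ℕ) : (Rc F k).obj S.X₃ ⟶ (Rc F (k + 1)).obj S.X₁ where
  f p := (les F).δ (evSC S p) (evSC_shortExact hS p) k (k + 1) rfl
  comm' p q _ :=
    ((les F).δ_natural (evSC_shortExact hS p) (evSC_shortExact hS q) (evSCd S p q) k (k + 1)
      rfl).symm

lemma δc_f (k : ℕ) (p : ℤ) :
    (δc F hS k).f p = (les F).δ (evSC S p) (evSC_shortExact hS p) k (k + 1) rfl := rfl

lemma δc_naturality (φ : S ⟶ S') (k : ℕ) :
    (Rc F k).map φ.τ₃ ≫ δc F hS' k = δc F hS k ≫ (Rc F (k + 1)).map φ.τ₁ := by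
  ext p
  exact (les F).δ_natural (evSC_shortExact hS p) (evSC_shortExact hS' p)
    ((HomologicalComplex.eval A (ComplexShape.up ℤ) p).mapShortComplex.map φ) k (k + 1) rfl

lemma isIso_δc (k : ℕ) (h₂ : ∀ p, IsZero ((F.rightDerived k).obj (S.X₂.X p)))
    (h₂' : ∀ p, IsZero ((F.rightDerived (k + 1)).obj (S.X₂.X p))) : IsIso (δc F hS k) := by
  haveI : ∀ p, IsIso ((δc F hS k).f p) := fun p => by
    haveI : Mono ((δc F hS k).f p) := mono_δ F (evSC S p) (evSC_shortExact hS p) k (h₂ p)
    haveI : Epi ((δc F hS k).f p) := epi_δ F (evSC S p) (evSC_shortExact hS p) k (h₂' p)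
    exact isIso_of_mono_of_epi _
  exact HomologicalComplex.Hom.isIso_of_components _

lemma map_g_comp_δc (k : ℕ) : (Rc F k).map S.g ≫ δc F hS k = 0 := by
  ext p
  exact (les F).comp_δ (evSC S p) (evSC_shortExact hS p) k (k + 1) rfl

lemma exact_map_g_δc (k : ℕ) :
    (ShortComplex.mk ((Rc F k).map S.g) (δc F hS k) (map_g_comp_δc F hS k)).Exact := by
  apply HomologicalComplex.exact_of_degreewise_exact
  intro p
  exact (les F).exact₃ (evSC S p) (evSC_shortExact hS p) k (k + 1) rfl

include hS in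
lemma exact_map_f_map_g (k : ℕ) :
    (ShortComplex.mk ((Rc F k).map S.f) ((Rc F k).map S.g)
      (by rw [← Functor.map_comp, S.zero, Functor.map_zero])).Exact := by
  apply HomologicalComplex.exact_of_degreewise_exact
  intro p
  exact (les F).exact₂ (evSC S p) (evSC_shortExact hS p) k

lemma epi_δc (k : ℕ) (h₂' : ∀ p, IsZero ((F.rightDerived (k + 1)).obj (S.X₂.X p))) :
    Epi (δc F hS k) := by
  haveI : ∀ p, Epi ((δc F hS k).f p) := fun p =>
    epi_δ F (evSC S p) (evSC_shortExact hS p) k (h₂' p)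
  exact HomologicalComplex.epi_of_epi_f _ inferInstance

section LeftExact

variable [PreservesFiniteLimits F]

include hS in
lemma mono_Rc_zero_map_f : Mono ((Rc F 0).map S.f) := by
  haveI : ∀ p, Mono (((Rc F 0).map S.f).f p) := fun p =>
    mono_rightDerived_zero_map_f F (evSC S p) (evSC_shortExact hS p)
  exact HomologicalComplex.mono_of_mono_f _ inferInstance

include hS in
/-- if `R¹F` vanishes on the terms of `S.X₁`, then `R⁰F` preserves the exactness of `S` -/
lemma shortExact_map_Rc_zero (h₁ : ∀ p, IsZero ((F.rightDerived 1).obj (S.X₁.X p))) :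
    (S.map (Rc F 0)).ShortExact := by
  apply HomologicalComplex.shortExact_of_degreewise_shortExact
  intro p
  have hp := evSC_shortExact hS p
  exact ShortComplex.ShortExact.mk' ((les F).exact₂ (evSC S p) hp 0)
    (mono_rightDerived_zero_map_f F (evSC S p) hp)
    (((les F).exact₃ (evSC S p) hp 0 1 rfl).epi_f ((h₁ p).eq_of_tgt _ _))

variable [HasDerivedCategory.{w'} B]

/-- the connecting morphism `R⁰F(X₃) ⟶ R¹F(X₁)` is a quasi-isomorphism if `R⁰F(X₁)` and
`R⁰F(X₂)` are acyclic and `R¹F` vanishes on the terms of `X₂` -/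
lemma isIso_Q_map_δc_zero (h₁ : IsZero (DerivedCategory.Q.obj ((Rc F 0).obj S.X₁)))
    (h₂ : IsZero (DerivedCategory.Q.obj ((Rc F 0).obj S.X₂)))
    (h₂' : ∀ p, IsZero ((F.rightDerived 1).obj (S.X₂.X p))) :
    IsIso (DerivedCategory.Q.map (δc F hS 0)) := by
  haveI := mono_Rc_zero_map_f F hS
  haveI := epi_δc F hS 0 h₂'
  exact isIso_Q_map_of_fourTerm ((Rc F 0).map S.f) ((Rc F 0).map S.g) (δc F hS 0)
    (by rw [← Functor.map_comp, S.zero, Functor.map_zero]) (map_g_comp_δc F hS 0)
    (exact_map_f_map_g F hS 0) (exact_map_g_δc F hS 0) h₁ h₂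

include hS in
/-- if `R¹F` vanishes on the terms of `S.X₁` and `R⁰F(X₁)`, `R⁰F(X₂)` are acyclic, so is
`R⁰F(X₃)` -/
lemma isZero_Q_Rc_zero_X₃ (h₁ : ∀ p, IsZero ((F.rightDerived 1).obj (S.X₁.X p)))
    (h₁' : IsZero (DerivedCategory.Q.obj ((Rc F 0).obj S.X₁)))
    (h₂ : IsZero (DerivedCategory.Q.obj ((Rc F 0).obj S.X₂))) :
    IsZero (DerivedCategory.Q.obj ((Rc F 0).obj S.X₃)) :=
  isZero_Q_X₃_of_shortExact (shortExact_map_Rc_zero F hS h₁) h₁' h₂

end LeftExact

end Groth.Agent.Helper6.RDL
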