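import Mathlib
import Groth.Agent.Lib.Helper6.RDU.Embed

set_option linter.unusedSectionVars false
set_option linter.unusedVariables false
set_option linter.unusedSimpArgs false
set_option autoImplicit false
set_option linter.style.haveILetI false
set_option maxHeartbeats 400000

universe w w' v u v' u'

noncomputable section

namespace Groth.Agent.Helper6.RDL

open CategoryTheory CategoryTheory.Limits Groth.Agent.Helper6.RDU

variable {A : Type u} [Category.{v} A] [Abelian A]

section Disk

variable (I : ℤ → A)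

/-- the differential of the disk complex -/
def diskD (p : ℤ) : (I p ⊞ I (p + 1)) ⟶ (I (p + 1) ⊞ I (p + 1 + 1)) := biprod.snd ≫ biprod.inl

lemma diskD_comp (p : ℤ) : diskD I p ≫ diskD I (p + 1) = 0 := by
  dsimp only [diskD]
  rw [Category.assoc, biprod.inl_snd_assoc, zero_comp, comp_zero]

/-- the contractible complex `⨁ₚ (I p → I p)` with `I p` in degrees `p - 1` and `p` -/
def disk : CochainComplex A ℤ :=
  CochainComplex.of (fun p => I p ⊞ I (p + 1)) (diskD I) (diskD_comp I)

/-- first projection -/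
def diskFst (p : ℤ) : (disk I).X p ⟶ I p := (biprod.fst : I p ⊞ I (p + 1) ⟶ I p)

/-- second projection -/
def diskSnd (p : ℤ) : (disk I).X p ⟶ I (p + 1) := (biprod.snd : I p ⊞ I (p + 1) ⟶ I (p + 1))

/-- first inclusion -/
def diskInl (p : ℤ) : I p ⟶ (disk I).X p := (biprod.inl : I p ⟶ I p ⊞ I (p + 1))

/-- second inclusion -/
def diskInr (p : ℤ) : I (p + 1) ⟶ (disk I).X p := (biprod.inr : I (p + 1) ⟶ I p ⊞ I (p + 1))

@[reassoc (attr := simp)]
lemma diskInl_fst (p : ℤ) : diskInl I p ≫ diskFst I p = 𝟙 _ := biprod.inl_fst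

@[reassoc (attr := simp)]
lemma diskInl_snd (p : ℤ) : diskInl I p ≫ diskSnd I p = 0 := biprod.inl_snd

@[reassoc (attr := simp)]
lemma diskInr_fst (p : ℤ) : diskInr I p ≫ diskFst I p = 0 := biprod.inr_fst

@[reassoc (attr := simp)]
lemma diskInr_snd (p : ℤ) : diskInr I p ≫ diskSnd I p = 𝟙 _ := biprod.inr_snd

lemma disk_total (p : ℤ) :
    diskFst I p ≫ diskInl I p + diskSnd I p ≫ diskInr I p = 𝟙 ((disk I).X p) :=
  biprod.total

lemma disk_d (p : ℤ) : (disk I).d p (p + 1) = diskSnd I p ≫ diskInl I (p + 1) := by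
  exact CochainComplex.of_d (fun p => I p ⊞ I (p + 1)) (diskD I) p

variable {I}

lemma disk_X_hom_ext {Z : A} {p : ℤ} (f g : Z ⟶ (disk I).X p)
    (h₁ : f ≫ diskFst I p = g ≫ diskFst I p) (h₂ : f ≫ diskSnd I p = g ≫ diskSnd I p) :
    f = g :=
  biprod.hom_ext (X := I p) (Y := I (p + 1)) f g h₁ h₂

/-- morphisms to a term of the disk complex -/
def diskLift {Z : A} {p : ℤ} (a : Z ⟶ I p) (b : Z ⟶ I (p + 1)) : Z ⟶ (disk I).X p :=
  (biprod.lift a b : Z ⟶ I p ⊞ I (p + 1))

@[reassoc (attr := simp)]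
lemma diskLift_fst {Z : A} {p : ℤ} (a : Z ⟶ I p) (b : Z ⟶ I (p + 1)) :
    diskLift a b ≫ diskFst I p = a := biprod.lift_fst _ _

@[reassoc (attr := simp)]
lemma diskLift_snd {Z : A} {p : ℤ} (a : Z ⟶ I p) (b : Z ⟶ I (p + 1)) :
    diskLift a b ≫ diskSnd I p = b := biprod.lift_snd _ _

/-- morphisms to the disk complex are determined by their first components -/
lemma disk_hom_ext {X : CochainComplex A ℤ} (φ ψ : X ⟶ disk I)
    (h : ∀ p, φ.f p ≫ diskFst I p = ψ.f p ≫ diskFst I p) : φ = ψ := by
  have key : ∀ (χ : X ⟶ disk I) (p : ℤ),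
      χ.f p ≫ diskSnd I p = X.d p (p + 1) ≫ χ.f (p + 1) ≫ diskFst I (p + 1) := by
    intro χ p
    have h1 := χ.comm p (p + 1)
    rw [disk_d] at h1
    have h2 := h1 =≫ diskFst I (p + 1)
    simp only [Category.assoc, diskInl_fst, Category.comp_id] at h2
    exact h2
  ext p
  apply disk_X_hom_ext
  · exact h p
  · rw [key φ p, key ψ p, h (p + 1)]

/-- the morphism to the disk complex with given first components -/
def diskMk {X : CochainComplex A ℤ} (u : ∀ p, X.X p ⟶ I p) : X ⟶ disk I where
  f p := diskLift (u p) (X.d p (p + 1) ≫ u (p + 1))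
  comm' p q hpq := by
    obtain rfl : p + 1 = q := hpq
    rw [disk_d]
    apply disk_X_hom_ext
    · simp
    · simp

lemma diskMk_f_fst {X : CochainComplex A ℤ} (u : ∀ p, X.X p ⟶ I p) (p : ℤ) :
    (diskMk u).f p ≫ diskFst I p = u p :=
  diskLift_fst _ _

/-- the disk complex on injective objects is an injective object -/
lemma injective_disk (hI : ∀ p, Injective (I p)) : Injective (disk I) where
  factors {X Y} g f _ := by
    haveI := hI
    let u : ∀ p, Y.X p ⟶ I p := fun p =>
      Injective.factorThru (g.f p ≫ diskFst I p) (f.f p)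
    refine ⟨diskMk u, ?_⟩
    apply disk_hom_ext
    intro p
    rw [HomologicalComplex.comp_f, Category.assoc, diskMk_f_fst]
    exact Injective.comp_factorThru _ _

variable (I)

/-- the contracting homotopy of the disk complex -/
def diskHomotopy : Homotopy (𝟙 (disk I)) 0 where
  hom i j := if h : j + 1 = i then
    diskFst I i ≫ eqToHom (by rw [h]) ≫ diskInr I j else 0
  zero i j hij := dif_neg hij
  comm i := by
    obtain ⟨j, rfl⟩ : ∃ j, i = j + 1 := ⟨i - 1, by ring⟩
    rw [dNext_eq _ (show (ComplexShape.up ℤ).Rel (j + 1) (j + 1 + 1) from rfl),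
      prevD_eq _ (show (ComplexShape.up ℤ).Rel j (j + 1) from rfl), disk_d, disk_d]
    rw [dif_pos rfl, dif_pos rfl]
    simp only [eqToHom_refl, Category.id_comp, HomologicalComplex.id_f,
      HomologicalComplex.zero_f, add_zero, Category.assoc, diskInl_fst_assoc,
      diskInr_snd_assoc]
    exact ((add_comm _ _).trans (disk_total I (j + 1))).symm

end Disk

/-- contractible complexes which are injective and termwise injective -/
def GoodJ (J : CochainComplex A ℤ) : Prop :=
  Injective J ∧ (∀ p, Injective (J.X p)) ∧ Nonempty (Homotopy (𝟙 J) 0)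

lemma goodJ_disk (I : ℤ → A) (hI : ∀ p, Injective (I p)) : GoodJ (disk I) := by
  refine ⟨injective_disk hI, fun p => ?_, ⟨diskHomotopy I⟩⟩
  haveI := hI
  exact inferInstanceAs (Injective (I p ⊞ I (p + 1)))

lemma goodJ_embCplx [EnoughInjectives A] (K : CochainComplex A ℤ) : GoodJ (embCplx K) :=
  goodJ_disk (fun p => Injective.under (K.X p)) (fun p => inferInstance)

section Zero

variable [HasDerivedCategory.{w} A]

lemma isZero_Q_obj_of_homotopy (J : CochainComplex A ℤ) (h : Homotopy (𝟙 J) 0) :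
    IsZero (DerivedCategory.Q.obj J) := by
  rw [IsZero.iff_id_eq_zero, ← DerivedCategory.Q.map_id,
    DerivedCategory.Q_map_eq_of_homotopy A h, Functor.map_zero]

lemma GoodJ.isZero_Q_obj {J : CochainComplex A ℤ} (hJ : GoodJ J) :
    IsZero (DerivedCategory.Q.obj J) :=
  isZero_Q_obj_of_homotopy J hJ.2.2.some

end Zero

section ZeroMap

variable {B : Type u'} [Category.{v'} B] [Abelian B] [HasDerivedCategory.{w'} B]

lemma GoodJ.isZero_Q_obj_map {J : CochainComplex A ℤ} (hJ : GoodJ J) (H : A ⥤ B) [H.Additive] :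
    IsZero (DerivedCategory.Q.obj ((H.mapHomologicalComplex (ComplexShape.up ℤ)).obj J)) := by
  have h := DerivedCategory.Q_map_eq_of_homotopy B
    ((H.mapHomotopy hJ.2.2.some : Homotopy
      ((H.mapHomologicalComplex (ComplexShape.up ℤ)).map (𝟙 J))
      ((H.mapHomologicalComplex (ComplexShape.up ℤ)).map 0)))
  rw [CategoryTheory.Functor.map_id, CategoryTheory.Functor.map_id,
    CategoryTheory.Functor.map_zero, CategoryTheory.Functor.map_zero] at h
  rw [IsZero.iff_id_eq_zero]
  exact h

end ZeroMap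

end Groth.Agent.Helper6.RDL
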