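import Mathlib
import Groth.Agent.Lib.Helper6.RDL.DeltaC
import Groth.Agent.Lib.Helper6.RDL.Disk

set_option linter.unusedSectionVars false
set_option linter.unusedVariables false
set_option linter.unusedSimpArgs false
set_option autoImplicit false
set_option linter.style.haveILetI false
set_option maxHeartbeats 400000

universe w w' v u v' u'

noncomputable section

namespace Groth.Agent.Helper6.RDL

open CategoryTheory CategoryTheory.Limits Groth.Agent.Helper6.RDU

variable {A : Type u} [Category.{v} A] [Abelian A] [EnoughInjectives A]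
  {B : Type u'} [Category.{v'} B] [Abelian B] [HasDerivedCategory.{w'} B]
  (F : A ⥤ B) [F.Additive] [PreservesFiniteLimits F]

/-- complexes with terms in `Mk F k` such that `R⁰F` of the complex is acyclic (if `k ≠ 0`) -/
def Ck (k : ℕ) : ObjectProperty (CochainComplex A ℤ) := fun X =>
  (∀ p, Mk F k (X.X p)) ∧ (k ≠ 0 → IsZero (DerivedCategory.Q.obj ((Rc F 0).obj X)))

lemma isZero_Q_obj_map_shift (H : A ⥤ B) [H.Additive] (X : CochainComplex A ℤ) (a : ℤ)
    (hX : IsZero (DerivedCategory.Q.obj ((H.mapHomologicalComplex (ComplexShape.up ℤ)).obj X))) :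
    IsZero (DerivedCategory.Q.obj ((H.mapHomologicalComplex (ComplexShape.up ℤ)).obj (X⟦a⟧))) := by
  have e₁ : (H.mapHomologicalComplex (ComplexShape.up ℤ)).obj (X⟦a⟧) ≅
      ((H.mapHomologicalComplex (ComplexShape.up ℤ)).obj X)⟦a⟧ :=
    ((H.mapHomologicalComplex (ComplexShape.up ℤ)).commShiftIso a).app X
  have e₂ : DerivedCategory.Q.obj (((H.mapHomologicalComplex (ComplexShape.up ℤ)).obj X)⟦a⟧) ≅
      (DerivedCategory.Q.obj ((H.mapHomologicalComplex (ComplexShape.up ℤ)).obj X))⟦a⟧ :=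
    ((DerivedCategory.Q (C := B)).commShiftIso a).app _
  exact ((shiftFunctor (DerivedCategory B) a).map_isZero hX).of_iso
    (DerivedCategory.Q.mapIso e₁ ≪≫ e₂)

lemma Ck_shift (k : ℕ) (X : CochainComplex A ℤ) (a : ℤ) (hX : Ck F k X) : Ck F k (X⟦a⟧) :=
  ⟨fun p => hX.1 _, fun hk => isZero_Q_obj_map_shift (F.rightDerived 0) X a (hX.2 hk)⟩

/-- the short exact sequences used in the induction step -/
def SP (k : ℕ) : ObjectProperty (ShortComplex (CochainComplex A ℤ)) := fun S =>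
  S.ShortExact ∧ Ck F (k + 1) S.X₁ ∧ GoodJ S.X₂

variable {F}

lemma SP.isZero_rightDerived_X₂ {k : ℕ} {S : ShortComplex (CochainComplex A ℤ)} (hS : SP F k S)
    (i : ℕ) (p : ℤ) : IsZero ((F.rightDerived (i + 1)).obj (S.X₂.X p)) := by
  haveI := hS.2.2.2.1 p
  exact F.isZero_rightDerived_obj_injective_succ i (S.X₂.X p)

lemma SP.Ck_X₃ {k : ℕ} {S : ShortComplex (CochainComplex A ℤ)} (hS : SP F k S) :
    Ck F k S.X₃ := by
  refine ⟨fun p i hi => ?_, fun hk => ?_⟩
  · obtain ⟨hi0, hik⟩ : i ≠ 0 ∧ i ≠ k := hi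
    obtain ⟨j, rfl⟩ : ∃ j, i = j + 1 := ⟨i - 1, by omega⟩
    exact isZero_X₃_of_isZero_X₁ F (evSC S p) (evSC_shortExact hS.1 p) (j + 1)
      (hS.isZero_rightDerived_X₂ j p) (hS.2.1.1 p (j + 1 + 1) (by
        change j + 1 + 1 ≠ 0 ∧ j + 1 + 1 ≠ k + 1
        omega))
  · exact isZero_Q_Rc_zero_X₃ F hS.1 (fun p => hS.2.1.1 p 1 (by
        change 1 ≠ 0 ∧ 1 ≠ k + 1
        omega)) (hS.2.1.2 (by omega)) (hS.2.2.isZero_Q_obj_map (F.rightDerived 0))

lemma SP.isIso_Q_map_δc {k : ℕ} {S : ShortComplex (CochainComplex A ℤ)} (hS : SP F k S) :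
    IsIso (DerivedCategory.Q.map (δc F hS.1 k)) := by
  rcases Nat.eq_zero_or_pos k with h0 | h0
  · subst h0
    exact isIso_Q_map_δc_zero F hS.1 (hS.2.1.2 (by omega))
      (hS.2.2.isZero_Q_obj_map (F.rightDerived 0)) (fun p => hS.isZero_rightDerived_X₂ 0 p)
  · obtain ⟨j, rfl⟩ : ∃ j, k = j + 1 := ⟨k - 1, by omega⟩
    haveI := isIso_δc F hS.1 (j + 1) (fun p => hS.isZero_rightDerived_X₂ j p)
      (fun p => hS.isZero_rightDerived_X₂ (j + 1) p)
    infer_instance

end Groth.Agent.Helper6.RDL
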