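import Mathlib
import Groth.Agent.Lib.Helper6.RDL.StepA

set_option linter.unusedSectionVars false
set_option linter.unusedVariables false
set_option linter.unusedSimpArgs false
set_option autoImplicit false
set_option linter.style.haveILetI false
set_option maxHeartbeats 400000

universe w w' v u v' u'

noncomputable section

namespace Groth.Agent.Helper6.RDL

open CategoryTheory CategoryTheory.Limits Groth.Agent.Helper6.RDU

variable {A : Type u} [Category.{v} A] [Abelian A] [EnoughInjectives A]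
  {B : Type u'} [Category.{v'} B] [Abelian B] [HasDerivedCategory.{w'} B]
  (F : A ⥤ B) [F.Additive] [PreservesFiniteLimits F] (k : ℕ)

/-- the first projection -/
abbrev pi₁ : (SP F k).FullSubcategory ⥤ CochainComplex A ℤ := (SP F k).ι ⋙ ShortComplex.π₁

/-- the third projection -/
abbrev pi₃ : (SP F k).FullSubcategory ⥤ CochainComplex A ℤ := (SP F k).ι ⋙ ShortComplex.π₃

/-- the functor `S ↦ S.X₁⟦1⟧` -/
def pFun : (SP F k).FullSubcategory ⥤ (Ck F (k + 1)).FullSubcategory :=
  (Ck F (k + 1)).lift (pi₁ F k ⋙ shiftFunctor (CochainComplex A ℤ) (1 : ℤ))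
    (fun S => Ck_shift F (k + 1) _ 1 S.property.2.1)

/-- the functor `S ↦ S.X₃` -/
def tFun : (SP F k).FullSubcategory ⥤ (Ck F k).FullSubcategory :=
  (Ck F k).lift (pi₃ F k) (fun S => S.property.Ck_X₃)

instance : (pFun F k).Full where
  map_surjective {S S'} φ := by
    obtain ⟨g₁', hg₁⟩ := (shiftFunctor (CochainComplex A ℤ) (1 : ℤ)).map_surjective φ.hom
    let g₁ : S.obj.X₁ ⟶ S'.obj.X₁ := g₁'
    haveI : Mono S.obj.f := S.property.1.mono_f
    haveI : Epi S.obj.g := S.property.1.epi_g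
    haveI : Injective S'.obj.X₂ := S'.property.2.2.1
    let g₂ : S.obj.X₂ ⟶ S'.obj.X₂ := Injective.factorThru (g₁ ≫ S'.obj.f) S.obj.f
    have h₂ : S.obj.f ≫ g₂ = g₁ ≫ S'.obj.f := Injective.comp_factorThru _ _
    have w : S.obj.f ≫ g₂ ≫ S'.obj.g = 0 := by
      rw [reassoc_of% h₂, S'.obj.zero, comp_zero]
    let g₃ : S.obj.X₃ ⟶ S'.obj.X₃ := S.property.1.exact.desc (g₂ ≫ S'.obj.g) w
    have h₃ : S.obj.g ≫ g₃ = g₂ ≫ S'.obj.g := S.property.1.exact.g_desc _ _
    let ψ : S.obj ⟶ S'.obj := ShortComplex.homMk g₁ g₂ g₃ h₂.symm h₃.symm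
    refine ⟨ObjectProperty.homMk ψ, ?_⟩
    apply ObjectProperty.hom_ext
    exact hg₁

instance : (pFun F k).EssSurj where
  mem_essImage Y := by
    let X : CochainComplex A ℤ := Y.obj⟦(-1 : ℤ)⟧
    let S : (SP F k).FullSubcategory :=
      ⟨embSC X, embSC_shortExact X, Ck_shift F (k + 1) _ (-1) Y.property, goodJ_embCplx X⟩
    exact ⟨S, ⟨ObjectProperty.isoMk _
      ((shiftFunctorCompIsoId (CochainComplex A ℤ) (-1 : ℤ) 1 (by simp)).app Y.obj)⟩⟩

end Groth.Agent.Helper6.RDL
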