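import Mathlib
import Groth.Agent.Lib.Helper6.RDL.StepB
import Groth.Agent.Lib.Helper6.RDL.KanLoc

set_option linter.unusedSectionVars false
set_option linter.unusedVariables false
set_option linter.unusedSimpArgs false
set_option autoImplicit false
set_option linter.style.haveILetI false
set_option maxHeartbeats 400000

universe w w' v u v' u'

noncomputable section

namespace Groth.Agent.Helper6.RDL

open CategoryTheory CategoryTheory.Limits Groth.Agent.Helper6.RDU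

variable {A : Type u} [Category.{v} A] [Abelian A] [EnoughInjectives A]
  [HasDerivedCategory.{w} A]
  {B : Type u'} [Category.{v'} B] [Abelian B] [HasDerivedCategory.{w'} B]
  (F : A ⥤ B) [F.Additive] [PreservesFiniteLimits F] (k : ℕ)

/-- the connecting isomorphism `Q X₃ ≅ (Q X₁)⟦1⟧` as a natural isomorphism -/
def deltaIso : pi₃ F k ⋙ DerivedCategory.Q ≅
    pi₁ F k ⋙ DerivedCategory.Q ⋙ shiftFunctor (DerivedCategory A) (1 : ℤ) :=
  NatIso.ofComponents (fun S =>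
    @asIso _ _ _ _ (DerivedCategory.triangleOfSESδ S.property.1)
      (isIso_triangleOfSESδ S.property.1 (S.property.2.2.isZero_Q_obj)))
   (fun {S S'} g =>
     (DerivedCategory.triangleOfSESδ_naturality S.property.1 S'.property.1 g.hom).symm)

/-- the connecting isomorphism `RᵏF(X₃) ≅ Rᵏ⁺¹F(X₁)` in the derived category as a natural
isomorphism -/
def deltaCIso : pi₃ F k ⋙ Rc F k ⋙ DerivedCategory.Q ≅
    pi₁ F k ⋙ Rc F (k + 1) ⋙ DerivedCategory.Q :=
  NatIso.ofComponents (fun S =>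
    @asIso _ _ _ _ (DerivedCategory.Q.map (δc F S.property.1 k)) S.property.isIso_Q_map_δc)
   (fun {S S'} g => by
     have h := δc_naturality F S.property.1 S'.property.1 g.hom k
     have h' := congr_arg (DerivedCategory.Q (C := B)).map h
     rw [Functor.map_comp, Functor.map_comp] at h'
     exact h')

/-- shift bookkeeping -/
def shiftBook (H : A ⥤ B) [H.Additive] :
    shiftFunctor (CochainComplex A ℤ) (1 : ℤ) ⋙ H.mapHomologicalComplex (ComplexShape.up ℤ) ⋙
      DerivedCategory.Q ⋙ shiftFunctor (DerivedCategory B) (-((k + 1 : ℕ) : ℤ)) ≅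
    H.mapHomologicalComplex (ComplexShape.up ℤ) ⋙ DerivedCategory.Q ⋙
      shiftFunctor (DerivedCategory B) (-(k : ℤ)) :=
  Functor.isoWhiskerLeft _ (Functor.associator _ _ _).symm ≪≫
    (Functor.associator _ _ _).symm ≪≫
    Functor.isoWhiskerRight ((H.mapHomologicalComplex (ComplexShape.up ℤ) ⋙
      DerivedCategory.Q).commShiftIso (1 : ℤ)) _ ≪≫ Functor.associator _ _ _ ≪≫
    Functor.isoWhiskerLeft _ (shiftFunctorAdd' (DerivedCategory B) (1 : ℤ) (-((k + 1 : ℕ) : ℤ))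
      (-(k : ℤ)) (by push_cast; ring)).symm ≪≫ Functor.associator _ _ _

variable (RF : DerivedCategory A ⥤ DerivedCategory B)

/-- the left hand side of the claim -/
abbrev ClaimL (k : ℕ) : (Ck F k).FullSubcategory ⥤ DerivedCategory B :=
  (Ck F k).ι ⋙ DerivedCategory.Q ⋙ RF

/-- the right hand side of the claim -/
abbrev ClaimR (k : ℕ) : (Ck F k).FullSubcategory ⥤ DerivedCategory B :=
  (Ck F k).ι ⋙ Rc F k ⋙ DerivedCategory.Q ⋙ shiftFunctor (DerivedCategory B) (-(k : ℤ))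

/-- the isomorphism on the category of short exact sequences -/
def stepIso (e : ClaimL F RF k ≅ ClaimR F k) :
    pFun F k ⋙ ClaimL F RF (k + 1) ≅ pFun F k ⋙ ClaimR F (k + 1) :=
  show pi₁ F k ⋙ shiftFunctor (CochainComplex A ℤ) (1 : ℤ) ⋙ DerivedCategory.Q ⋙ RF ≅
    pi₁ F k ⋙ shiftFunctor (CochainComplex A ℤ) (1 : ℤ) ⋙ Rc F (k + 1) ⋙ DerivedCategory.Q ⋙
      shiftFunctor (DerivedCategory B) (-((k + 1 : ℕ) : ℤ)) from
  (show pi₁ F k ⋙ shiftFunctor (CochainComplex A ℤ) (1 : ℤ) ⋙ DerivedCategory.Q ⋙ RF ≅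
      pi₁ F k ⋙ DerivedCategory.Q ⋙ shiftFunctor (DerivedCategory A) (1 : ℤ) ⋙ RF from
    Functor.isoWhiskerLeft (pi₁ F k)
      (Functor.isoWhiskerRight ((DerivedCategory.Q (C := A)).commShiftIso (1 : ℤ)) RF)) ≪≫
  (show pi₁ F k ⋙ DerivedCategory.Q ⋙ shiftFunctor (DerivedCategory A) (1 : ℤ) ⋙ RF ≅
      pi₃ F k ⋙ DerivedCategory.Q ⋙ RF from
    Functor.isoWhiskerRight (deltaIso F k).symm RF) ≪≫
  (show pi₃ F k ⋙ DerivedCategory.Q ⋙ RF ≅
      pi₃ F k ⋙ Rc F k ⋙ DerivedCategory.Q ⋙ shiftFunctor (DerivedCategory B) (-(k : ℤ)) from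
    Functor.isoWhiskerLeft (tFun F k) e) ≪≫
  (show pi₃ F k ⋙ Rc F k ⋙ DerivedCategory.Q ⋙ shiftFunctor (DerivedCategory B) (-(k : ℤ)) ≅
      pi₁ F k ⋙ Rc F (k + 1) ⋙ DerivedCategory.Q ⋙
        shiftFunctor (DerivedCategory B) (-(k : ℤ)) from
    Functor.isoWhiskerRight (deltaCIso F k) (shiftFunctor (DerivedCategory B) (-(k : ℤ)))) ≪≫
  (show pi₁ F k ⋙ Rc F (k + 1) ⋙ DerivedCategory.Q ⋙
        shiftFunctor (DerivedCategory B) (-(k : ℤ)) ≅
      pi₁ F k ⋙ shiftFunctor (CochainComplex A ℤ) (1 : ℤ) ⋙ Rc F (k + 1) ⋙ DerivedCategory.Q ⋙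
        shiftFunctor (DerivedCategory B) (-((k + 1 : ℕ) : ℤ)) from
    Functor.isoWhiskerLeft (pi₁ F k) (shiftBook k (F.rightDerived (k + 1))).symm)

/-- the induction step -/
theorem claim_step (e : Nonempty (ClaimL F RF k ≅ ClaimR F k)) :
    Nonempty (ClaimL F RF (k + 1) ≅ ClaimR F (k + 1)) :=
  ⟨natIsoDescent (pFun F k) (stepIso F k RF e.some)⟩

end Groth.Agent.Helper6.RDL
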