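import Mathlib
import Groth.Agent.Lib.Helper6.RDL.StepC
import Groth.Agent.Lib.Helper6.RDL.Chain

set_option linter.unusedSectionVars false
set_option linter.unusedVariables false
set_option linter.unusedSimpArgs false
set_option autoImplicit false
set_option linter.style.haveILetI false
set_option maxHeartbeats 400000

universe w w' v u v' u'

noncomputable section

namespace Groth.Agent.Helper6.RDL

open CategoryTheory CategoryTheory.Limits Groth.Agent.Helper6.RDU

variable {A : Type u} [Category.{v} A] [Abelian A] [EnoughInjectives A]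
  [HasDerivedCategory.{w} A]
  {B : Type u'} [Category.{v'} B] [Abelian B] [HasDerivedCategory.{w'} B]
  (F : A ⥤ B) [F.Additive] [PreservesFiniteLimits F]
  (RF : DerivedCategory A ⥤ DerivedCategory B) (α : Hc F ⟶ DerivedCategory.Q ⋙ RF)
  (hα : ∀ X : CochainComplex A ℤ,
    (∀ (p : ℤ) (i : ℕ), IsZero ((F.rightDerived (i + 1)).obj (X.X p))) → IsIso (α.app X))

include hα in
/-- the base case -/
theorem claim_zero : Nonempty (ClaimL F RF 0 ≅ ClaimR F 0) := by
  let τ : (Ck F 0).ι ⋙ Hc F ⟶ (Ck F 0).ι ⋙ DerivedCategory.Q ⋙ RF :=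
    Functor.whiskerLeft (Ck F 0).ι α
  haveI : ∀ X, IsIso (τ.app X) := fun X => hα X.obj (fun p i => X.property.1 p (i + 1) (by
    change i + 1 ≠ 0 ∧ i + 1 ≠ 0
    omega))
  haveI : IsIso τ := NatIso.isIso_of_isIso_app τ
  let e₁ : ClaimL F RF 0 ≅ (Ck F 0).ι ⋙ Hc F := (asIso τ).symm
  let e₂ : Hc F ≅ Rc F 0 ⋙ DerivedCategory.Q :=
    Functor.isoWhiskerRight
      (NatIso.mapHomologicalComplex F.rightDerivedZeroIsoSelf (ComplexShape.up ℤ)).symm
      DerivedCategory.Q
  let e₃ : Rc F 0 ⋙ DerivedCategory.Q ≅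
      Rc F 0 ⋙ DerivedCategory.Q ⋙ shiftFunctor (DerivedCategory B) (-((0 : ℕ) : ℤ)) :=
    Functor.isoWhiskerLeft (Rc F 0) ((Functor.rightUnitor _).symm ≪≫
      Functor.isoWhiskerLeft DerivedCategory.Q
        (shiftFunctorZero' (DerivedCategory B) (-((0 : ℕ) : ℤ)) (by simp)).symm)
  exact ⟨e₁ ≪≫ Functor.isoWhiskerLeft (Ck F 0).ι (e₂ ≪≫ e₃)⟩

include hα in
/-- the claim in all degrees -/
theorem claim_all (k : ℕ) : Nonempty (ClaimL F RF k ≅ ClaimR F k) := by
  induction k with
  | zero => exact claim_zero F RF α hα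
  | succ k ih => exact claim_step F k RF ih

end Groth.Agent.Helper6.RDL
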