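import Mathlib
import Groth.Agent.Lib.Helper6.RDU.AcycCplx
import Groth.Agent.Lib.Helper6.RDL.Classes

set_option linter.unusedSectionVars false
set_option linter.unusedVariables false
set_option linter.unusedSimpArgs false
set_option autoImplicit false
set_option linter.style.haveILetI false
set_option maxHeartbeats 400000

universe v u v' u'

noncomputable section

namespace Groth.Agent.Helper6.RDL

open CategoryTheory CategoryTheory.Limits Groth.Agent.Helper6.RDU

variable {A : Type u} [Category.{v} A] [Abelian A]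
  {B : Type u'} [Category.{v'} B] [Abelian B]

/-- an additive functor which maps the short exact sequences of kernels of the differentials
of `K` to short exact sequences preserves the acyclicity of `K` -/
lemma map_exactAt_of_kerSC (H : A ⥤ B) [H.Additive] (K : CochainComplex A ℤ)
    (hH : ∀ p' p q : ℤ, p' + 1 = p → p + 1 = q → ((kerSC K p' p q).map H).ShortExact) (p : ℤ) :
    ((H.mapHomologicalComplex (ComplexShape.up ℤ)).obj K).ExactAt p := by
  have h1 : (ComplexShape.up ℤ).prev p = p - 1 := (ComplexShape.up ℤ).prev_eq' (by simp)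
  have h2 : (ComplexShape.up ℤ).next p = p + 1 := (ComplexShape.up ℤ).next_eq' rfl
  rw [HomologicalComplex.exactAt_iff' _ (p - 1) p (p + 1) h1 h2]
  have hS₁ := hH (p - 1) p (p + 1) (by omega) rfl
  have hS₂ := hH p (p + 1) (p + 2) rfl (by omega)
  have hS₃ := hH (p + 1) (p + 2) (p + 3) (by omega) (by omega)
  -- the relevant morphisms
  let g₁ : K.X (p - 1) ⟶ kernel (K.d p (p + 1)) :=
    kernel.lift (K.d p (p + 1)) (K.d (p - 1) p) (K.d_comp_d _ _ _)
  let f₂ : kernel (K.d p (p + 1)) ⟶ K.X p := kernel.ι (K.d p (p + 1))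
  let g₂ : K.X p ⟶ kernel (K.d (p + 1) (p + 2)) :=
    kernel.lift (K.d (p + 1) (p + 2)) (K.d p (p + 1)) (K.d_comp_d _ _ _)
  let f₃ : kernel (K.d (p + 1) (p + 2)) ⟶ K.X (p + 1) := kernel.ι (K.d (p + 1) (p + 2))
  have e₁ : g₁ ≫ f₂ = K.d (p - 1) p := kernel.lift_ι _ _ _
  have e₂ : g₂ ≫ f₃ = K.d p (p + 1) := kernel.lift_ι _ _ _
  have z₂ : f₂ ≫ g₂ = 0 := (kerSC K p (p + 1) (p + 2)).zero
  haveI : Epi (H.map g₁) := hS₁.epi_g
  haveI : Mono (H.map f₃) := hS₃.mono_f
  have hex₂ : (ShortComplex.mk (H.map f₂) (H.map g₂)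
      (by rw [← H.map_comp, z₂, H.map_zero])).Exact := hS₂.exact
  let Sa : ShortComplex B := ShortComplex.mk (H.map (K.d (p - 1) p)) (H.map g₂) (by
    rw [← e₁, H.map_comp, Category.assoc, ← H.map_comp f₂, z₂, H.map_zero, comp_zero])
  let φ₁ : Sa ⟶ ShortComplex.mk (H.map f₂) (H.map g₂) (by rw [← H.map_comp, z₂, H.map_zero]) :=
    { τ₁ := H.map g₁
      τ₂ := 𝟙 _
      τ₃ := 𝟙 _
      comm₁₂ := by
        change H.map g₁ ≫ H.map f₂ = H.map (K.d (p - 1) p) ≫ 𝟙 _
        rw [← H.map_comp, e₁, Category.comp_id]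
      comm₂₃ := by
        change 𝟙 _ ≫ H.map g₂ = H.map g₂ ≫ 𝟙 _
        rw [Category.id_comp, Category.comp_id] }
  haveI : Epi φ₁.τ₁ := inferInstanceAs (Epi (H.map g₁))
  haveI : IsIso φ₁.τ₂ := inferInstanceAs (IsIso (𝟙 _))
  haveI : Mono φ₁.τ₃ := inferInstanceAs (Mono (𝟙 _))
  have hSa : Sa.Exact := (ShortComplex.exact_iff_of_epi_of_isIso_of_mono φ₁).2 hex₂
  let T : ShortComplex B := ShortComplex.mk (H.map (K.d (p - 1) p)) (H.map (K.d p (p + 1))) (by
    rw [← H.map_comp, K.d_comp_d, H.map_zero])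
  let φ₂ : Sa ⟶ T :=
    { τ₁ := 𝟙 _
      τ₂ := 𝟙 _
      τ₃ := H.map f₃
      comm₁₂ := by
        change 𝟙 _ ≫ H.map (K.d (p - 1) p) = H.map (K.d (p - 1) p) ≫ 𝟙 _
        rw [Category.id_comp, Category.comp_id]
      comm₂₃ := by
        change 𝟙 _ ≫ H.map (K.d p (p + 1)) = H.map g₂ ≫ H.map f₃
        rw [Category.id_comp, ← H.map_comp, e₂] }
  haveI : Epi φ₂.τ₁ := inferInstanceAs (Epi (𝟙 _))
  haveI : IsIso φ₂.τ₂ := inferInstanceAs (IsIso (𝟙 _))
  haveI : Mono φ₂.τ₃ := inferInstanceAs (Mono (H.map f₃))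
  exact (ShortComplex.exact_iff_of_epi_of_isIso_of_mono φ₂).1 hSa

variable [HasInjectiveResolutions A] (F : A ⥤ B) [F.Additive] [PreservesFiniteLimits F]
  (n : ℕ) (hdim : ∀ (X : A) (i : ℕ), n < i → IsZero ((F.rightDerived i).obj X))
  (K : CochainComplex A ℤ) (hK : ∀ p, K.ExactAt p) (hA : ∀ p, Pk F n (K.X p))

include hK hA in
lemma isZero_kernel_of_lt (i : ℕ) (hi : i < n) :
    ∀ (p q : ℤ), p + 1 = q → IsZero ((F.rightDerived i).obj (kernel (K.d p q))) := by
  induction i with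
  | zero =>
    intro p q h
    have hS := kerSC_shortExact K p q (q + 1) h rfl (hK q)
    exact isZero_rightDerived_zero_X₁ F _ hS (hA p 0 (by
      change (0 : ℕ) ≠ n
      omega))
  | succ i ih =>
    intro p q h
    have hS := kerSC_shortExact K p q (q + 1) h rfl (hK q)
    exact isZero_X₁_of_isZero_X₃ F _ hS i (hA p (i + 1) (by
      change i + 1 ≠ n
      omega)) (ih (by omega) q (q + 1) rfl)

include hK hA hdim in
lemma Pk_kernel (p q : ℤ) (h : p + 1 = q) : Pk F n (kernel (K.d p q)) := by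
  intro i hi
  have hi' : i ≠ n := hi
  rcases lt_or_gt_of_ne hi' with h1 | h1
  · exact isZero_kernel_of_lt F n K hK hA i h1 p q h
  · exact hdim _ i h1

include hK hA hdim in
lemma kerSC_map_shortExact (p' p q : ℤ) (h' : p' + 1 = p) (h : p + 1 = q) :
    ((kerSC K p' p q).map (F.rightDerived n)).ShortExact := by
  have hS := kerSC_shortExact K p' p q h' h (hK p)
  have hmono : Mono ((F.rightDerived n).map (kerSC K p' p q).f) := by
    rcases Nat.eq_zero_or_pos n with h0 | h0
    · subst h0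
      exact mono_rightDerived_zero_map_f F _ hS
    · obtain ⟨m, rfl⟩ : ∃ m, n = m + 1 := ⟨n - 1, by omega⟩
      exact ((les F).exact₁ _ hS m (m + 1) rfl).mono_g
        ((isZero_kernel_of_lt F (m + 1) K hK hA m (by omega) p q h).eq_of_src _ _)
  have hepi : Epi ((F.rightDerived n).map (kerSC K p' p q).g) :=
    ((les F).exact₃ _ hS n (n + 1) rfl).epi_f ((hdim _ (n + 1) (by omega)).eq_of_tgt _ _)
  exact ShortComplex.ShortExact.mk' ((les F).exact₂ _ hS n) hmono hepi

include hK hA hdim in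
/-- `RⁿF` preserves the acyclicity of complexes with terms in `Pk F n` -/
theorem map_exactAt_G (p : ℤ) :
    (((F.rightDerived n).mapHomologicalComplex (ComplexShape.up ℤ)).obj K).ExactAt p :=
  map_exactAt_of_kerSC (F.rightDerived n) K
    (fun p' p q h' h => kerSC_map_shortExact F n hdim K hK hA p' p q h' h) p

end Groth.Agent.Helper6.RDL
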