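import Mathlib
import Groth.Agent.Lib.Helper6.RDL.KanLoc

set_option linter.unusedSectionVars false
set_option linter.unusedVariables false
set_option linter.unusedSimpArgs false
set_option autoImplicit false
set_option linter.style.haveILetI false
set_option maxHeartbeats 400000

noncomputable section

namespace Groth.Agent.Helper6.RDL

open CategoryTheory CategoryTheory.Limits Opposite

variable {C₁ C₂ D₂ H : Type*} [Category C₁] [Category C₂] [Category D₂] [Category H]
  {W₁ : MorphismProperty C₁} {W₂ : MorphismProperty C₂}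
  (Φ : LocalizerMorphism W₁ W₂) [hΦ : Φ.IsLeftDerivabilityStructure]
  (F : C₂ ⥤ H) (hF : W₁.IsInvertedBy (Φ.functor ⋙ F))
  (L₂ : C₂ ⥤ D₂) [hL₂ : L₂.IsLocalization W₂]

include hF hΦ in
lemma derives_op : Φ.op.Derives F.op := by
  intro X Y f hf
  have h := hF f.unop hf
  change IsIso ((Φ.functor ⋙ F).map f.unop).op
  infer_instance

include hF hΦ hL₂ in
lemma hasLeftKanExtension_op : Functor.HasLeftKanExtension L₂.op F.op := by
  haveI := (derives_op Φ F hF).hasPointwiseRightDerivedFunctor
  have : F.op.HasRightDerivedFunctor W₂.op := inferInstance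
  exact (Functor.hasRightDerivedFunctor_iff F.op L₂.op W₂.op).1 this

include hF hΦ hL₂ in
/-- existence of the left derived functor -/
theorem hasLeftDerivedFunctor_of_leftDerivabilityStructure : F.HasLeftDerivedFunctor W₂ := by
  haveI := hasLeftKanExtension_op Φ F hF L₂
  let F'' := L₂.op.leftKanExtension F.op
  let α'' := L₂.op.leftKanExtensionUnit F.op
  haveI : F''.unop.IsRightKanExtension (F := F) (L := L₂) (NatTrans.unop α'') :=
    isRightKanExtension_unop F'' α''
  rw [Functor.hasLeftDerivedFunctor_iff F L₂ W₂]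
  exact Functor.HasRightKanExtension.mk F''.unop (NatTrans.unop α'')

include hF hΦ hL₂ in
/-- the counit of the left derived functor is an isomorphism on the objects of the derivability
structure -/
theorem isIso_counit_of_leftDerivabilityStructure (LF : D₂ ⥤ H) (ε : L₂ ⋙ LF ⟶ F)
    [LF.IsLeftDerivedFunctor ε W₂] (X₁ : C₁) : IsIso (ε.app (Φ.functor.obj X₁)) := by
  haveI := hasLeftKanExtension_op Φ F hF L₂
  let F'' := L₂.op.leftKanExtension F.op
  let α'' : F.op ⟶ L₂.op ⋙ F'' := L₂.op.leftKanExtensionUnit F.op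
  haveI : F''.IsLeftKanExtension α'' := inferInstance
  haveI : F''.IsRightDerivedFunctor α'' W₂.op :=
    (Functor.isRightDerivedFunctor_iff_isLeftKanExtension F'' α'' W₂.op).2 inferInstance
  have h1 : IsIso (α''.app (Φ.op.functor.obj (op X₁))) :=
    (derives_op Φ F hF).isIso_of_isRightDerivedFunctor α'' (op X₁)
  haveI : F''.unop.IsRightKanExtension (F := F) (L := L₂) (NatTrans.unop α'') :=
    isRightKanExtension_unop F'' α''
  haveI : F''.unop.IsLeftDerivedFunctor (F := F) (L := L₂) (NatTrans.unop α'') W₂ :=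
    (Functor.isLeftDerivedFunctor_iff_isRightKanExtension _ _ W₂).2 inferInstance
  let γ : LF ⟶ F''.unop := F''.unop.leftDerivedLift (NatTrans.unop α'') W₂ LF ε
  haveI : IsIso γ :=
    (Functor.isLeftDerivedFunctor_iff_isIso_leftDerivedLift F''.unop (NatTrans.unop α'') W₂
      LF ε).1 inferInstance
  have he : γ.app (L₂.obj (Φ.functor.obj X₁)) ≫ (NatTrans.unop α'').app (Φ.functor.obj X₁) =
      ε.app (Φ.functor.obj X₁) :=
    Functor.leftDerived_fac_app F''.unop (NatTrans.unop α'') W₂ LF ε (Φ.functor.obj X₁)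
  rw [← he]
  have h1' : IsIso (α''.app (op (Φ.functor.obj X₁))) := h1
  haveI : IsIso ((NatTrans.unop α'').app (Φ.functor.obj X₁)) := by
    change IsIso (α''.app (op (Φ.functor.obj X₁))).unop
    infer_instance
  infer_instance

end Groth.Agent.Helper6.RDL
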