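import Mathlib
import Groth.Agent.Lib.Helper6.RDU.TriDeriv

set_option linter.unusedSectionVars false
set_option linter.unusedVariables false
set_option linter.unusedSimpArgs false
set_option autoImplicit false
set_option linter.style.haveILetI false
set_option maxHeartbeats 400000

noncomputable section

namespace Groth.Agent.Helper6.RDL

open CategoryTheory CategoryTheory.Limits Pretriangulated Groth.Agent.Helper6.RDU

variable {C : Type*} [Category C] [HasZeroObject C] [HasShift C ℤ] [Preadditive C]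
  [∀ (n : ℤ), (shiftFunctor C n).Additive] [Pretriangulated C] [IsTriangulated C]
  (A B : ObjectProperty C) [A.IsTriangulated] [B.IsTriangulated] [B.IsClosedUnderIsomorphisms]

variable (hres : ∀ X : C, ∃ (Y : C) (s : Y ⟶ X), A Y ∧ B.trW s)

include hres in
lemma isVerdierLeftLocalizing_of_res : A.IsVerdierLeftLocalizing B := by
  rw [ObjectProperty.isVerdierLeftLocalizing_iff]
  intro X Y s hY hs
  obtain ⟨Z, t, hZ, ht⟩ := hres X
  exact ⟨Z, t ≫ s, t, hZ, inf_trW_of_trW A B _ hZ hY (B.trW.comp_mem _ _ ht hs), rfl⟩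

include hres in
lemma hasLeftResolutions_of_res : (A.triangulatedLocalizerMorphism B).HasLeftResolutions := by
  intro X
  obtain ⟨Y, s, hY, hs⟩ := hres X
  exact ⟨{ X₁ := ⟨Y, hY⟩, w := s, hw := hs }⟩

include hres in
lemma isLocalizedEquivalence_of_res :
    (A.triangulatedLocalizerMorphism B).IsLocalizedEquivalence := by
  haveI := isVerdierLeftLocalizing_of_res A B hres
  haveI := hasLeftResolutions_of_res A B hres
  let Φ := A.triangulatedLocalizerMorphism B
  haveI : (Φ.functor ⋙ B.trW.Q).EssSurj := Φ.essSurj_of_hasLeftResolutions B.trW.Q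
  haveI : (Φ.functor ⋙ B.trW.Q).IsLocalization (B.inverseImage A.ι).trW :=
    Φ.isLocalization_of_isLocalizedFullyFaithful (L₂ := B.trW.Q) (L₁ := Φ.functor ⋙ B.trW.Q)
      (F := 𝟭 _) (Functor.rightUnitor _).symm
  exact LocalizerMorphism.IsLocalizedEquivalence.of_isLocalization_of_isLocalization Φ B.trW.Q

include hres in
lemma isConnected_leftResolution_of_res (X : C) :
    IsConnected ((A.triangulatedLocalizerMorphism B).LeftResolution X) := by
  haveI : Nonempty ((A.triangulatedLocalizerMorphism B).LeftResolution X) :=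
    hasLeftResolutions_of_res A B hres X
  apply zigzag_isConnected
  intro R R'
  let φ : B.trW.LeftFraction R.X₁.obj R'.X₁.obj := { f := R.w, s := R'.w, hs := R'.hw }
  obtain ⟨ψ, hψ⟩ := φ.exists_rightFraction
  obtain ⟨Z, t, hZ, ht⟩ := hres ψ.X'
  let R'' : (A.triangulatedLocalizerMorphism B).LeftResolution X :=
    { X₁ := ⟨Z, hZ⟩
      w := t ≫ ψ.s ≫ R.w
      hw := B.trW.comp_mem _ _ ht (B.trW.comp_mem _ _ ψ.hs R.hw) }
  let a : R'' ⟶ R :=
    { f := A.homMk (t ≫ ψ.s)
      comm := by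
        change (t ≫ ψ.s) ≫ R.w = t ≫ ψ.s ≫ R.w
        rw [Category.assoc] }
  let b : R'' ⟶ R' :=
    { f := A.homMk (t ≫ ψ.f)
      comm := by
        change (t ≫ ψ.f) ≫ R'.w = t ≫ ψ.s ≫ R.w
        have : ψ.s ≫ R.w = ψ.f ≫ R'.w := hψ
        rw [Category.assoc, this] }
  exact Zigzag.of_inv_hom a b

include hres in
lemma hasLeftResolutions_arrow_of_res :
    (A.triangulatedLocalizerMorphism B).arrow.HasLeftResolutions := by
  intro f
  obtain ⟨Y₀, s₀, hY₀, hs₀⟩ := hres f.left
  obtain ⟨Y₁, s₁, hY₁, hs₁⟩ := hres f.right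
  let φ : B.trW.LeftFraction Y₀ Y₁ := { f := s₀ ≫ f.hom, s := s₁, hs := hs₁ }
  obtain ⟨ψ, hψ⟩ := φ.exists_rightFraction
  obtain ⟨Z, t, hZ, ht⟩ := hres ψ.X'
  let g : (⟨Z, hZ⟩ : A.FullSubcategory) ⟶ ⟨Y₁, hY₁⟩ := A.homMk (t ≫ ψ.f)
  refine ⟨{ X₁ := Arrow.mk g
            w := Arrow.homMk (t ≫ ψ.s ≫ s₀) s₁ ?_
            hw := ⟨B.trW.comp_mem _ _ ht (B.trW.comp_mem _ _ ψ.hs hs₀), hs₁⟩ }⟩
  change (t ≫ ψ.s ≫ s₀) ≫ f.hom = (t ≫ ψ.f) ≫ s₁
  have : ψ.s ≫ s₀ ≫ f.hom = ψ.f ≫ s₁ := hψ
  simp only [Category.assoc]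
  rw [this]

include hres in
theorem isLeftDerivabilityStructure_of_res :
    (A.triangulatedLocalizerMorphism B).IsLeftDerivabilityStructure := by
  haveI := isLocalizedEquivalence_of_res A B hres
  haveI := fun X => isConnected_leftResolution_of_res A B hres X
  haveI := hasLeftResolutions_arrow_of_res A B hres
  exact LocalizerMorphism.IsLeftDerivabilityStructure.mk' _

end Groth.Agent.Helper6.RDL
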