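import Mathlib
import Groth.Agent.Lib.Helper6.RDL.TriDerivL
import Groth.Agent.Lib.Helper6.RDL.LeftDer
import Groth.Agent.Lib.Helper6.RDL.CoResol
import Groth.Agent.Lib.Helper6.RDL.GAcyc

set_option linter.unusedSectionVars false
set_option linter.unusedVariables false
set_option linter.unusedSimpArgs false
set_option autoImplicit false
set_option linter.style.haveILetI false
set_option maxHeartbeats 400000

universe w w' v u v' u'

noncomputable section

namespace Groth.Agent.Helper6.RDL

open CategoryTheory CategoryTheory.Limits Pretriangulated Groth.Agent.Helper6.RDU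

variable {A : Type u} [Category.{v} A] [Abelian A] [HasDerivedCategory.{w} A]
  [HasInjectiveResolutions A]
  {B : Type u'} [Category.{v'} B] [Abelian B] [HasDerivedCategory.{w'} B]
  (F : A ⥤ B) [F.Additive] [PreservesFiniteLimits F] (n : ℕ)

instance : (TwG (Pk F n)).IsTriangulated := TwG_isTriangulated (isAddClass_Van F _)

/-- the functor to be left derived -/
abbrev Gt : HomotopyCategory A (ComplexShape.up ℤ) ⥤ DerivedCategory B :=
  (F.rightDerived n).mapHomotopyCategory (ComplexShape.up ℤ) ⋙ DerivedCategory.Qh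

/-- the localizer morphism given by complexes with terms in `Pk F n` -/
abbrev PhiP : LocalizerMorphism
    ((HomotopyCategory.subcategoryAcyclic A).inverseImage (TwG (Pk F n)).ι).trW
    (HomotopyCategory.subcategoryAcyclic A).trW :=
  (TwG (Pk F n)).triangulatedLocalizerMorphism (HomotopyCategory.subcategoryAcyclic A)

variable (hdim : ∀ (X : A) (i : ℕ), n < i → IsZero ((F.rightDerived i).obj X))
  (hP : ∀ X : A, ∃ (Y : A) (p : Y ⟶ X), Epi p ∧ Pk F n Y)

include hdim hP in
lemma exists_resolution_P (X : HomotopyCategory A (ComplexShape.up ℤ)) :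
    ∃ (Y : HomotopyCategory A (ComplexShape.up ℤ)) (s : Y ⟶ X),
      TwG (Pk F n) Y ∧ (HomotopyCategory.subcategoryAcyclic A).trW s := by
  obtain ⟨Y, s, hY, hs⟩ := exists_left_resolution (Pk F n) (isAddClass_Van F _) hP
    (fun j => Low F n (n - j)) (by
      intro j S hS h₂ h₃ i hi
      obtain ⟨hi1, hi2⟩ : i < n - j ∧ i < n := hi
      rcases Nat.eq_zero_or_pos i with h0 | h0
      · subst h0
        exact isZero_rightDerived_zero_X₁ F S hS (h₂ 0 (by
          change (0 : ℕ) ≠ n
          omega))
      · obtain ⟨i', rfl⟩ : ∃ i', i = i' + 1 := ⟨i - 1, by omega⟩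
        exact isZero_X₁_of_isZero_X₃ F S hS i' (h₂ (i' + 1) (by
          change i' + 1 ≠ n
          omega)) (h₃ i' (by
          change i' < n - (j + 1) ∧ i' < n
          omega))) (by
      intro X hX i hi
      have hi' : i ≠ n := hi
      rcases lt_or_gt_of_ne hi' with h1 | h1
      · exact hX i (by
          change i < n - 0 ∧ i < n
          omega)
      · exact hdim _ i h1) n (by
      intro X i hi
      obtain ⟨hi1, hi2⟩ : i < n - n ∧ i < n := hi
      omega) X
  refine ⟨Y, s, hY, ?_⟩
  rwa [← HomotopyCategory.quasiIso_eq_trW_subcategoryAcyclic]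

include hdim hP in
lemma isLeftDerivabilityStructure_PhiP : (PhiP F n).IsLeftDerivabilityStructure :=
  isLeftDerivabilityStructure_of_res _ _ (exists_resolution_P F n hdim hP)

include hdim hP in
lemma isLocalizedEquivalence_PhiP : (PhiP F n).IsLocalizedEquivalence :=
  isLocalizedEquivalence_of_res _ _ (exists_resolution_P F n hdim hP)

include hdim in
lemma inverts_PhiP :
    ((HomotopyCategory.subcategoryAcyclic A).inverseImage (TwG (Pk F n)).ι).trW.IsInvertedBy
      ((PhiP F n).functor ⋙ Gt F n) := by
  intro X Y f hf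
  rw [ObjectProperty.trW_inverseImage_ι_iff, ObjectProperty.trW_iff] at hf
  obtain ⟨Z, a, b, hT, ⟨K, hK, ⟨e⟩⟩, hZ⟩ := hf
  have hT' := ((F.rightDerived n).mapHomotopyCategory (ComplexShape.up ℤ)).map_distinguished _ hT
  have hK' : ∀ p, K.ExactAt p := by
    rw [← HomotopyCategory.quotient_obj_mem_subcategoryAcyclic_iff_exactAt]
    exact (HomotopyCategory.subcategoryAcyclic A).prop_of_iso e hZ
  have hFK : HomotopyCategory.subcategoryAcyclic B
      ((HomotopyCategory.quotient B (ComplexShape.up ℤ)).obj
        (((F.rightDerived n).mapHomologicalComplex (ComplexShape.up ℤ)).obj K)) := by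
    rw [HomotopyCategory.quotient_obj_mem_subcategoryAcyclic_iff_exactAt]
    exact map_exactAt_G F n hdim K hK' hK
  have hZ' : HomotopyCategory.subcategoryAcyclic B
      (((F.rightDerived n).mapHomotopyCategory (ComplexShape.up ℤ)).obj Z) := by
    refine (HomotopyCategory.subcategoryAcyclic B).prop_of_iso ?_ hFK
    exact (((F.rightDerived n).mapHomotopyCategoryFactors (ComplexShape.up ℤ)).app K).symm ≪≫
      ((F.rightDerived n).mapHomotopyCategory (ComplexShape.up ℤ)).mapIso e.symm
  have hW : (HomotopyCategory.subcategoryAcyclic B).trW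
      (((F.rightDerived n).mapHomotopyCategory (ComplexShape.up ℤ)).map f.hom) :=
    ObjectProperty.trW.mk _ hT' hZ'
  rw [← HomotopyCategory.quasiIso_eq_trW_subcategoryAcyclic] at hW
  exact (DerivedCategory.isIso_Qh_map_iff _).2 hW

include hdim hP in
theorem hasLeftDerivedFunctor_K_aux
    (W : MorphismProperty (HomotopyCategory A (ComplexShape.up ℤ)))
    (hW : W = (HomotopyCategory.subcategoryAcyclic A).trW) :
    (Gt F n).HasLeftDerivedFunctor W := by
  subst hW
  haveI := isLeftDerivabilityStructure_PhiP F n hdim hP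
  exact hasLeftDerivedFunctor_of_leftDerivabilityStructure (PhiP F n) (Gt F n)
    (inverts_PhiP F n hdim) DerivedCategory.Qh

include hdim hP in
theorem hasLeftDerivedFunctor_K :
    (Gt F n).HasLeftDerivedFunctor (HomotopyCategory.quasiIso A (ComplexShape.up ℤ)) :=
  hasLeftDerivedFunctor_K_aux F n hdim hP _ (HomotopyCategory.quasiIso_eq_trW_subcategoryAcyclic A)

include hdim hP in
theorem isIso_counit_K_aux (W : MorphismProperty (HomotopyCategory A (ComplexShape.up ℤ)))
    (hW : W = (HomotopyCategory.subcategoryAcyclic A).trW)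
    [(DerivedCategory.Qh (C := A)).IsLocalization W]
    (LG : DerivedCategory A ⥤ DerivedCategory B) (ε : DerivedCategory.Qh ⋙ LG ⟶ Gt F n)
    [LG.IsLeftDerivedFunctor ε W]
    (K : CochainComplex A ℤ) (hK : ∀ p, Pk F n (K.X p)) :
    IsIso (ε.app ((HomotopyCategory.quotient A (ComplexShape.up ℤ)).obj K)) := by
  subst hW
  haveI := isLeftDerivabilityStructure_PhiP F n hdim hP
  let X₁ : (TwG (Pk F n)).FullSubcategory :=
    ⟨(HomotopyCategory.quotient A (ComplexShape.up ℤ)).obj K, TwG_quotient_obj K hK⟩
  exact isIso_counit_of_leftDerivabilityStructure (PhiP F n) (Gt F n)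
    (inverts_PhiP F n hdim) DerivedCategory.Qh LG ε X₁

include hdim hP in
theorem isIso_counit_K
    (LG : DerivedCategory A ⥤ DerivedCategory B) (ε : DerivedCategory.Qh ⋙ LG ⟶ Gt F n)
    [LG.IsLeftDerivedFunctor ε (HomotopyCategory.quasiIso A (ComplexShape.up ℤ))]
    (K : CochainComplex A ℤ) (hK : ∀ p, Pk F n (K.X p)) :
    IsIso (ε.app ((HomotopyCategory.quotient A (ComplexShape.up ℤ)).obj K)) :=
  isIso_counit_K_aux F n hdim hP _ (HomotopyCategory.quasiIso_eq_trW_subcategoryAcyclic A) LG ε K hK

include hdim hP in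
/-- complexes with terms in `Pk F n` up to homotopy localize to the derived category -/
theorem isLocalization_PhiP :
    ((TwG (Pk F n)).ι ⋙ DerivedCategory.Qh).IsLocalization
      ((HomotopyCategory.subcategoryAcyclic A).inverseImage (TwG (Pk F n)).ι).trW := by
  haveI := isLocalizedEquivalence_PhiP F n hdim hP
  haveI : (DerivedCategory.Qh (C := A)).IsLocalization
      (HomotopyCategory.subcategoryAcyclic A).trW := by
    rw [← HomotopyCategory.quasiIso_eq_trW_subcategoryAcyclic]
    infer_instance
  exact LocalizerMorphism.IsLocalizedEquivalence.isLocalization (PhiP F n) DerivedCategory.Qh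

end Groth.Agent.Helper6.RDL
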