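import Mathlib
import Groth.Agent.Lib.Helper6.RDL.Induct
import Groth.Agent.Lib.Helper6.RDL.LGK
import Groth.Agent.Lib.Helper6.RDU.Main

set_option linter.unusedSectionVars false
set_option linter.unusedVariables false
set_option linter.unusedSimpArgs false
set_option autoImplicit false
set_option linter.style.haveILetI false
set_option maxHeartbeats 400000

universe w w' v u v' u'

noncomputable section

namespace Groth.Agent.Helper6.RDL

open CategoryTheory CategoryTheory.Limits Groth.Agent.Helper6.RDU

variable {A : Type u} [Category.{v} A] [Abelian A] [EnoughInjectives A]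
  [HasDerivedCategory.{w} A]
  {B : Type u'} [Category.{v'} B] [Abelian B] [HasDerivedCategory.{w'} B]
  (F : A ⥤ B) [F.Additive] [PreservesFiniteLimits F] (n : ℕ)
  (hdim : ∀ (X : A) (i : ℕ), n < i → IsZero ((F.rightDerived i).obj X))
  (hP : ∀ X : A, ∃ (Y : A) (p : Y ⟶ X), Epi p ∧ Pk F n Y)

include hdim hP in
/-- the left derived functor of `RⁿF` exists on cochain complexes -/
theorem hasLeftDerivedFunctor_C :
    (Hc (F.rightDerived n)).HasLeftDerivedFunctor
      (HomologicalComplex.quasiIso A (ComplexShape.up ℤ)) := by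
  haveI := hasLeftDerivedFunctor_K F n hdim hP
  let LG := (Gt F n).totalLeftDerived DerivedCategory.Qh
    (HomotopyCategory.quasiIso A (ComplexShape.up ℤ))
  let ε : DerivedCategory.Qh ⋙ LG ⟶ Gt F n := (Gt F n).totalLeftDerivedCounit DerivedCategory.Qh
    (HomotopyCategory.quasiIso A (ComplexShape.up ℤ))
  haveI : LG.IsLeftDerivedFunctor ε (HomotopyCategory.quasiIso A (ComplexShape.up ℤ)) :=
    inferInstanceAs (((Gt F n).totalLeftDerived DerivedCategory.Qh
      (HomotopyCategory.quasiIso A (ComplexShape.up ℤ))).IsLeftDerivedFunctor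
        ((Gt F n).totalLeftDerivedCounit DerivedCategory.Qh
          (HomotopyCategory.quasiIso A (ComplexShape.up ℤ))) _)
  exact Functor.HasLeftDerivedFunctor.mk' LG (counitC (F.rightDerived n) LG ε)

include hdim in
/-- the unit of any chain level right derived functor of `F` is an isomorphism on complexes of
`F`-acyclic objects -/
theorem isIso_unit_C (RF : DerivedCategory A ⥤ DerivedCategory B)
    (α : Hc F ⟶ DerivedCategory.Q ⋙ RF)
    [RF.IsRightDerivedFunctor α (HomologicalComplex.quasiIso A (ComplexShape.up ℤ))]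
    (X : CochainComplex A ℤ)
    (hX : ∀ (p : ℤ) (i : ℕ), IsZero ((F.rightDerived (i + 1)).obj (X.X p))) :
    IsIso (α.app X) := by
  have hn : ∀ Y : A, IsZero ((F.rightDerived (n + 1)).obj Y) := fun Y => hdim Y (n + 1) (by omega)
  haveI := hasRightDerivedFunctor F (n + 1) hn
  let RF' := (Ft F).totalRightDerived DerivedCategory.Qh
    (HomotopyCategory.quasiIso A (ComplexShape.up ℤ))
  let α' : Ft F ⟶ DerivedCategory.Qh ⋙ RF' := (Ft F).totalRightDerivedUnit DerivedCategory.Qh
    (HomotopyCategory.quasiIso A (ComplexShape.up ℤ))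
  haveI : RF'.IsRightDerivedFunctor α' (HomotopyCategory.quasiIso A (ComplexShape.up ℤ)) :=
    inferInstanceAs (((Ft F).totalRightDerived DerivedCategory.Qh
      (HomotopyCategory.quasiIso A (ComplexShape.up ℤ))).IsRightDerivedFunctor
        ((Ft F).totalRightDerivedUnit DerivedCategory.Qh
          (HomotopyCategory.quasiIso A (ComplexShape.up ℤ))) _)
  have h1 : IsIso (α'.app ((HomotopyCategory.quotient A (ComplexShape.up ℤ)).obj X)) :=
    isIso_unit F (n + 1) hn X (fun m i hi => by
      obtain ⟨j, rfl⟩ : ∃ j, i = j + 1 := ⟨i - 1, by omega⟩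
      exact hX m j)
  exact isIso_unit_app_of_isRightDerivedFunctor F RF RF' α (unitC F RF' α') X
    (isIso_unitC_app F RF' α' X h1)

include hdim hP in
/-- the counit of any chain level left derived functor of `RⁿF` is an isomorphism on complexes
with terms in `Pk F n` -/
theorem isIso_counit_C (LG : DerivedCategory A ⥤ DerivedCategory B)
    (ε : DerivedCategory.Q ⋙ LG ⟶ Hc (F.rightDerived n))
    [LG.IsLeftDerivedFunctor ε (HomologicalComplex.quasiIso A (ComplexShape.up ℤ))]
    (X : CochainComplex A ℤ) (hX : ∀ p, Pk F n (X.X p)) :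
    IsIso (ε.app X) := by
  haveI := hasLeftDerivedFunctor_K F n hdim hP
  let LG' := (Gt F n).totalLeftDerived DerivedCategory.Qh
    (HomotopyCategory.quasiIso A (ComplexShape.up ℤ))
  let ε' : DerivedCategory.Qh ⋙ LG' ⟶ Gt F n := (Gt F n).totalLeftDerivedCounit DerivedCategory.Qh
    (HomotopyCategory.quasiIso A (ComplexShape.up ℤ))
  haveI : LG'.IsLeftDerivedFunctor ε' (HomotopyCategory.quasiIso A (ComplexShape.up ℤ)) :=
    inferInstanceAs (((Gt F n).totalLeftDerived DerivedCategory.Qh
      (HomotopyCategory.quasiIso A (ComplexShape.up ℤ))).IsLeftDerivedFunctor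
        ((Gt F n).totalLeftDerivedCounit DerivedCategory.Qh
          (HomotopyCategory.quasiIso A (ComplexShape.up ℤ))) _)
  have h1 : IsIso (ε'.app ((HomotopyCategory.quotient A (ComplexShape.up ℤ)).obj X)) :=
    isIso_counit_K F n hdim hP LG' ε' X hX
  exact isIso_counit_app_of_isLeftDerivedFunctor (F.rightDerived n) LG LG' ε
    (counitC (F.rightDerived n) LG' ε') X (isIso_counitC_app (F.rightDerived n) LG' ε' X h1)

end Groth.Agent.Helper6.RDL
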