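import Mathlib
import Groth.Agent.Lib.Helper6.RDL.Final

set_option linter.unusedSectionVars false
set_option linter.unusedVariables false
set_option linter.unusedSimpArgs false
set_option autoImplicit false
set_option linter.style.haveILetI false
set_option maxHeartbeats 400000

universe w w' v u v' u'

noncomputable section

namespace Groth.Agent.Helper6.RDL

open CategoryTheory CategoryTheory.Limits Groth.Agent.Helper6.RDU

variable {A : Type u} [Category.{v} A] [Abelian A] [EnoughInjectives A]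
  [HasDerivedCategory.{w} A]
  {B : Type u'} [Category.{v'} B] [Abelian B] [HasDerivedCategory.{w'} B]
  (F : A ⥤ B) [F.Additive] [PreservesFiniteLimits F] (n : ℕ)

/-- complexes with terms in `Pk F n` -/
def CP : ObjectProperty (CochainComplex A ℤ) := fun X => ∀ p, Pk F n (X.X p)

lemma CP_le_Ck : CP F n ≤ Ck F n := by
  intro X hX
  refine ⟨fun p => Van_mono F (fun i hi => hi.2) (hX p), fun hn0 => ?_⟩
  have hz : IsZero ((Rc F 0).obj X) := by
    rw [IsZero.iff_id_eq_zero]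
    ext p
    exact (hX p 0 (Ne.symm hn0)).eq_of_src _ _
  exact DerivedCategory.Q.map_isZero hz

/-- the functor from complexes with terms in `Pk F n` to the homotopy category -/
def cFun : (CP F n).FullSubcategory ⥤ (TwG (Pk F n)).FullSubcategory :=
  (TwG (Pk F n)).lift ((CP F n).ι ⋙ HomotopyCategory.quotient A (ComplexShape.up ℤ))
    (fun X => TwG_quotient_obj X.obj X.property)

instance : (cFun F n).Full := by
  dsimp only [cFun]
  infer_instance

instance : (cFun F n).EssSurj where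
  mem_essImage Y := by
    obtain ⟨K, hK, ⟨e⟩⟩ := Y.property
    exact ⟨⟨K, hK⟩, ⟨ObjectProperty.isoMk _ e.symm⟩⟩

variable (hdim : ∀ (X : A) (i : ℕ), n < i → IsZero ((F.rightDerived i).obj X))
  (hP : ∀ X : A, ∃ (Y : A) (p : Y ⟶ X), Epi p ∧ Pk F n Y)

include hdim hP in
/-- the main isomorphism `RF ≅ LG⟦-n⟧` -/
theorem main_iso (RF : DerivedCategory A ⥤ DerivedCategory B)
    (α : Hc F ⟶ DerivedCategory.Q ⋙ RF)
    [RF.IsRightDerivedFunctor α (HomologicalComplex.quasiIso A (ComplexShape.up ℤ))]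
    (LG : DerivedCategory A ⥤ DerivedCategory B)
    (ε : DerivedCategory.Q ⋙ LG ⟶ Hc (F.rightDerived n))
    [LG.IsLeftDerivedFunctor ε (HomologicalComplex.quasiIso A (ComplexShape.up ℤ))] :
    Nonempty (RF ≅ LG ⋙ shiftFunctor (DerivedCategory B) (-(n : ℤ))) := by
  obtain ⟨e_n⟩ := claim_all F RF α (fun X hX => isIso_unit_C F n hdim RF α X hX) n
  let sh := shiftFunctor (DerivedCategory B) (-(n : ℤ))
  let j : (CP F n).FullSubcategory ⥤ (Ck F n).FullSubcategory :=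
    ObjectProperty.ιOfLE (CP_le_Ck F n)
  let e₁ : (CP F n).ι ⋙ DerivedCategory.Q ⋙ RF ≅
      (CP F n).ι ⋙ Rc F n ⋙ DerivedCategory.Q ⋙ sh :=
    show j ⋙ ClaimL F RF n ≅ j ⋙ ClaimR F n from Functor.isoWhiskerLeft j e_n
  let τ : (CP F n).ι ⋙ DerivedCategory.Q ⋙ LG ⟶ (CP F n).ι ⋙ Hc (F.rightDerived n) :=
    Functor.whiskerLeft (CP F n).ι ε
  haveI : ∀ X, IsIso (τ.app X) := fun X => isIso_counit_C F n hdim hP LG ε X.obj X.property
  haveI : IsIso τ := NatIso.isIso_of_isIso_app τ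
  let e₂ : (CP F n).ι ⋙ Rc F n ⋙ DerivedCategory.Q ⋙ sh ≅
      (CP F n).ι ⋙ DerivedCategory.Q ⋙ LG ⋙ sh :=
    show ((CP F n).ι ⋙ Hc (F.rightDerived n)) ⋙ sh ≅
      ((CP F n).ι ⋙ DerivedCategory.Q ⋙ LG) ⋙ sh from
    Functor.isoWhiskerRight (asIso τ).symm sh
  let L : (TwG (Pk F n)).FullSubcategory ⥤ DerivedCategory A :=
    (TwG (Pk F n)).ι ⋙ DerivedCategory.Qh
  let e₃ : ∀ (T : DerivedCategory A ⥤ DerivedCategory B),
      cFun F n ⋙ L ⋙ T ≅ (CP F n).ι ⋙ DerivedCategory.Q ⋙ T := fun T =>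
    show (CP F n).ι ⋙ (HomotopyCategory.quotient A (ComplexShape.up ℤ) ⋙
      DerivedCategory.Qh) ⋙ T ≅ (CP F n).ι ⋙ DerivedCategory.Q ⋙ T from
    Functor.isoWhiskerLeft (CP F n).ι
      (Functor.isoWhiskerRight (DerivedCategory.quotientCompQhIso A) T)
  let e₅ : cFun F n ⋙ (L ⋙ RF) ≅ cFun F n ⋙ (L ⋙ LG ⋙ sh) :=
    e₃ RF ≪≫ e₁ ≪≫ e₂ ≪≫ (e₃ (LG ⋙ sh)).symm
  let e₆ : L ⋙ RF ≅ L ⋙ LG ⋙ sh := natIsoDescent (cFun F n) e₅
  haveI := isLocalization_PhiP F n hdim hP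
  letI : Localization.Lifting L
      ((HomotopyCategory.subcategoryAcyclic A).inverseImage (TwG (Pk F n)).ι).trW (L ⋙ RF) RF :=
    ⟨Iso.refl _⟩
  letI : Localization.Lifting L
      ((HomotopyCategory.subcategoryAcyclic A).inverseImage (TwG (Pk F n)).ι).trW
      (L ⋙ LG ⋙ sh) (LG ⋙ sh) := ⟨Iso.refl _⟩
  exact ⟨Localization.liftNatIso L
    ((HomotopyCategory.subcategoryAcyclic A).inverseImage (TwG (Pk F n)).ι).trW
    (L ⋙ RF) (L ⋙ LG ⋙ sh) RF (LG ⋙ sh) e₆⟩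

end Groth.Agent.Helper6.RDL
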